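import Groth.Agent.CurveEmbed.Main
import Groth.Agent.H23.PnChart
import Groth.Agent.S10829

/-! Degree one on a curve with `H¹(O) = 0` gives the projective line. -/

noncomputable section

set_option linter.style.haveILetI false
set_option linter.unusedSectionVars false
set_option backward.isDefEq.respectTransparency false
set_option backward.isDefEq.respectTransparency.types false

universe u

open CategoryTheory CategoryTheory.Limits AlgebraicGeometry TopologicalSpace Opposite

namespace Groth.Agent.CurveEmbed

open Groth.Agent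

variable {X : Scheme.{u}} (k : Type u) [Field k] [X.Over (Spec (CommRingCat.of k))] [IsIntegral X]
  [IsProper (X ↘ Spec (CommRingCat.of k))]

theorem isIso_of_closedImmersion_line (hdim : topologicalKrullDim X = 1) (i : X ⟶ CohB1.ProjSpace 1 k)
    [IsClosedImmersion i] : IsIso i := by
  haveI : IsIntegral (CohB1.ProjSpace 1 k) := H23.PnChart.isIntegral_projSpace 1 k
  haveI : IsProper (CohB1.ProjSpace.toSpec 1 k) := PnCoh.Chow.isProper_toSpec 1 k
  haveI : CompactSpace ↥(CohB1.ProjSpace 1 k) :=
    QuasiCompact.compactSpace_of_compactSpace (CohB1.ProjSpace.toSpec 1 k)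
  have hP : topologicalKrullDim ↥(CohB1.ProjSpace 1 k) = 1 := by simpa using S10829.result k 1
  by_cases hη : genericPoint (CohB1.ProjSpace 1 k) ∈ Set.range i
  · haveI : Surjective i := ⟨fun y => (show y ∈ Set.range i from
      ((genericPoint_spec (CohB1.ProjSpace 1 k)).specializes (Set.mem_univ y)).mem_closed
        i.isClosedEmbedding.isClosed_range hη)⟩
    exact isIso_of_isClosedImmersion_of_surjective i
  · exfalso
    have hc : IsClosed ({i (genericPoint X)} : Set ↥(CohB1.ProjSpace 1 k)) := by
      by_contra h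
      exact hη ⟨genericPoint X, CurveCohLib.eq_genericPoint_of_not_isClosed hP h⟩
    have h' : IsClosed ({genericPoint X} : Set X) := by
      have := hc.preimage i.continuous
      rwa [show i ⁻¹' {i (genericPoint X)} = ({genericPoint X} : Set X) from
        Set.ext fun y => ⟨fun h => i.isClosedEmbedding.injective h, fun h => congrArg _ h⟩] at this
    have h : ∀ y : X, y = genericPoint X := fun y =>
      ((genericPoint_spec X).specializes (Set.mem_univ y)).mem_closed h' (Set.mem_singleton _)
    haveI : Subsingleton (IrreducibleCloseds X) := ⟨fun a b => IrreducibleCloseds.ext <| by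
      obtain ⟨p, hp⟩ := a.isIrreducible.nonempty
      obtain ⟨q, hq⟩ := b.isIrreducible.nonempty
      ext y
      exact ⟨fun _ => by rw [h y, ← h q]; exact hq, fun _ => by rw [h y, ← h p]; exact hp⟩⟩
    have : topologicalKrullDim X ≤ 0 := Order.krullDim_nonpos_of_subsingleton
    rw [hdim] at this
    exact absurd this (by norm_num)

include k in
/-- The dimension of the global functions divides every degree. -/
theorem h0_structure_eq_one (hdim : topologicalKrullDim X = 1)
    (h1 : Subsingleton (Coh.HH X (Coh.structureModule X) 1)) {L : X.Modules} (hL : PicF.IsInvertible L)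
    (hdeg : Curv2.deg k X L 1 = 1) : Module.finrank k (Coh.HH X (Coh.structureModule X) 0) = 1 := by
  let f := X ↘ Spec (CommRingCat.of k)
  letI : Field Γ(X, ⊤) := (isField_of_universallyClosed k f).toField
  letI : Algebra k Γ(X, ⊤) := (f.appTop.hom.comp (Scheme.ΓSpecIso (CommRingCat.of k)).inv.hom).toAlgebra
  have hrank : ∀ M : X.Modules,
      letI : Module k Γ(M, ⊤) := Module.compHom _ (algebraMap k Γ(X, ⊤))
      Module.finrank k (Coh.HH X M 0) = Module.finrank k Γ(M, ⊤) := fun M => by
    letI : Module k Γ(M, ⊤) := Module.compHom _ (algebraMap k Γ(X, ⊤))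
    refine LinearEquiv.finrank_eq (LinearEquiv.ofBijective
      { toFun := fun t => (show Γ(M, ⊤) from Sheaf.H.equiv₀ (Coh.toAb M) isTerminalTop t)
        map_add' := fun a b => map_add _ a b
        map_smul' := fun a t => by
          refine (CurveCohLib.h0Equiv_smul M a t).trans ?_
          exact congrArg (· • _) (ConcreteCategory.congr_hom (X.presheaf.map_id (op ⊤)) _) }
      (Sheaf.H.equiv₀ (Coh.toAb M) isTerminalTop).bijective)
  letI : Module k Γ(L, ⊤) := Module.compHom _ (algebraMap k Γ(X, ⊤))
  haveI : IsScalarTower k Γ(X, ⊤) Γ(L, ⊤) := IsScalarTower.of_compHom k Γ(X, ⊤) Γ(L, ⊤)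
  have hL' := hrank L
  rw [← Module.finrank_mul_finrank k Γ(X, ⊤) Γ(L, ⊤)] at hL'
  have hO : Module.finrank k (Coh.HH X (Coh.structureModule X) 0) = Module.finrank k Γ(X, ⊤) := by
    rw [hrank]
    letI : Module k Γ(Coh.structureModule X, ⊤) := Module.compHom _ (algebraMap k Γ(X, ⊤))
    exact LinearEquiv.finrank_eq
      ({ toFun := fun t => (show Γ(X, ⊤) from t)
         invFun := fun t => t
         map_add' := fun _ _ => rfl
         map_smul' := fun _ _ => rfl
         left_inv := fun _ => rfl
         right_inv := fun _ => rfl } : Γ(Coh.structureModule X, ⊤) ≃ₗ[k] Γ(X, ⊤))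
  have hr := h0_eq k hdim h1 hL (by omega)
  rw [hL', hO, hdeg] at hr
  have hdvd : Module.finrank k Γ(X, ⊤) ∣ 1 :=
    (Nat.dvd_add_left (dvd_refl _)).1 (Dvd.intro (Module.finrank Γ(X, ⊤) Γ(L, ⊤)) (by exact_mod_cast hr))
  rw [hO, Nat.dvd_one.1 hdvd]

include k in
/-- A curve with `H¹(O) = 0` and an invertible module of degree one is the projective line. -/
theorem exists_iso_line (hdim : topologicalKrullDim X = 1)
    (h1 : Subsingleton (Coh.HH X (Coh.structureModule X) 1)) {L : X.Modules} (hL : PicF.IsInvertible L)
    (hdeg : Curv2.deg k X L 1 = 1) :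
    ∃ e : X ≅ CohB1.ProjSpace 1 k,
      e.hom ≫ CohB1.ProjSpace.toSpec 1 k = X ↘ Spec (CommRingCat.of k) := by
  have hr := h0_eq k hdim h1 hL (by omega)
  rw [h0_structure_eq_one k hdim h1 hL hdeg, hdeg] at hr
  obtain ⟨i, hi, hie, -⟩ := exists_embedding k hdim h1 hL (by omega) (N := 1) (by omega)
  haveI := hi
  haveI := isIso_of_closedImmersion_line k hdim i
  exact ⟨asIso i, hie⟩

end Groth.Agent.CurveEmbed
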