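import Groth.Agent.Lib.AmpleEmbed
import Groth.Agent.Lib.AVAmple
import Groth.Agent.AmpleVan.Iter

/-! A generating system whose products span the section ring gives a closed immersion. -/

set_option linter.style.haveILetI false
set_option backward.isDefEq.respectTransparency false
set_option backward.isDefEq.respectTransparency.types false

universe u

open CategoryTheory CategoryTheory.Limits AlgebraicGeometry TopologicalSpace HomogeneousLocalization

noncomputable section

namespace Groth.Agent.CurveEmbed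

open Groth.Agent Groth.Agent.InvX Groth.Agent.H23

variable {X : Scheme.{u}}

/-- The powers `L^{⊗ (m+1)}`, as iterated twists of `L`. -/
def P (L : X.Modules) (m : ℕ) : X.Modules := (AmpleVan.itw L m).obj L

/-- Every section of a higher power is a combination of products of sections of degree one. -/
def MulSurj (L : X.Modules) : Prop :=
  ∀ (m : ℕ) (u : Γ(P L (m + 1), ⊤)), ∃ (a v : Γ(P L m, ⊤)) (t t' : Γ(L, ⊤)),
    u = (InvX.tmul a t + InvX.tmul v t' : Γ(CohB1.tensorMod (P L m) L, ⊤))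

theorem isInvertible_P {L : X.Modules} (hL : PicF.IsInvertible L) : ∀ m, PicF.IsInvertible (P L m)
  | 0 => hL
  | m + 1 => InvX.isInvertible_tensorMod (isInvertible_P hL m) hL

/-- The powers of a local frame. -/
def E {L : X.Modules} {U : X.Opens} (e : Γ(L, U)) : ∀ m, Γ(P L m, U)
  | 0 => e
  | m + 1 => (InvX.tmul (E e m) e : Γ(CohB1.tensorMod (P L m) L, U))

theorem isFrame_E {L : X.Modules} {U : X.Opens} {e : Γ(L, U)} (he : IsFrame e) : ∀ m, IsFrame (E e m)
  | 0 => he
  | m + 1 => InvX.isFrame_tmul (isFrame_E he m) he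

theorem pw_app {L : X.Modules} (σ : Γ(L, ⊤)) (U : X.Opens) (b : Γ(X, U)) : ∀ m : ℕ,
    ((AmpleVan.pw σ m).app L).app U (b • AModX.res L (le_top : U ≤ ⊤) σ) =
      b • E (AModX.res L (le_top : U ≤ ⊤) σ) m
  | 0 => rfl
  | m + 1 => by
    show (AmpleVan.mulSec σ _).app U (((AmpleVan.pw σ m).app L).app U _) = _
    rw [AmpleVan.mulSec_app, pw_app σ U b m]
    exact InvX.tmul_smul_left b _ _

/-- Over a field, a morphism given by sections generating the section ring, not contracting any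
curve, is a closed immersion. -/
theorem isClosedImmersion_of_mulSurj {k : Type u} [Field k] (f : X ⟶ Spec (CommRingCat.of k)) [IsProper f]
    {L : X.Modules} (hL : PicF.IsInvertible L)
    (hC : ∀ {C : Scheme.{u}} (j : C ⟶ X), IsClosedImmersion j → IsIntegral C →
      TrivBasic.Triv ((Scheme.Modules.pullback j).obj L) → Finite C)
    (hm : MulSurj L) {n : ℕ} (s : Fin (n + 1) → Γ(L, ⊤))
    (hspan : ∀ z : Γ(L, ⊤), ∃ c : Fin (n + 1) → k,
      z = ∑ j, f.appTop ((Scheme.ΓSpecIso (CommRingCat.of k)).inv (c j)) • s j)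
    (r : X ⟶ CohB1.ProjSpace n k) (hr : r ≫ CohB1.ProjSpace.toSpec n k = f)
    (τ : (Scheme.Modules.pullback r).obj (Twist.twistProjSpace n k 1) ≅ L)
    (hτ : ∀ i, τ.hom.app ⊤ (ProjUP.pullSec r (Twist.twistProjSpace n k 1) (ProjUP.coord n k i)) = s i) :
    IsClosedImmersion r := by
  classical
  haveI : CompactSpace X := QuasiCompact.compactSpace_of_compactSpace f
  haveI : X.IsSeparated := ⟨by
    rw [← Limits.terminal.comp_from f]
    infer_instance⟩
  haveI : JacobsonSpace X := LocallyOfFiniteType.jacobsonSpace f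
  haveI : IsLocallyNoetherian X := LocallyOfFiniteType.isLocallyNoetherian f
  haveI : IsNoetherian X := {}
  haveI hp : IsProper (CohB1.ProjSpace.toSpec n k) := PnCoh.Chow.isProper_toSpec n k
  haveI : IsProper r := by
    haveI : IsProper (r ≫ CohB1.ProjSpace.toSpec n k) := hr ▸ ‹IsProper f›
    exact IsProper.of_comp r (CohB1.ProjSpace.toSpec n k)
  have hN : PicF.IsInvertible (Twist.twistProjSpace n k 1) :=
    PnCoh.Finite.isInvertible_twist (fun j : ULift.{u} (Fin (n + 1)) => MvPolynomial.X j.down)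
      (fun j => ProjPt.X_mem j.down) (by
        refine top_le_iff.1 ((AmpleEmbed.iSup_basicOpen_X n k).ge.trans (iSup_le fun j => ?_))
        exact le_iSup_of_le (ULift.up j) le_rfl) 1
  haveI : LocallyQuasiFinite r := AVAmple.locallyQuasiFinite_of_closed r fun q hq =>
    AVAmple.finite_preimage r hL hN τ hC q hq
  haveI : IsFinite r := IsFinite.of_isProper_of_locallyQuasiFinite r
  let D : Fin (n + 1) → (CohB1.ProjSpace n k).Opens := fun i =>
    Proj.basicOpen (CohB1.polyGrading n k) (MvPolynomial.X i)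
  let U : Fin (n + 1) → X.Opens := fun i => TrivBasic.locus (s i)
  have hpre : ∀ i, r ⁻¹ᵁ D i = U i := fun i => AmpleEmbed.preimage_chart r τ i (hτ i)
  have hDaff : ∀ i, IsAffineOpen (D i) := fun i => Proj.isAffineOpen_basicOpen _ _ (ProjPt.X_mem _) one_pos
  refine IsZariskiLocalAtTarget.of_iSup_eq_top (P := @IsClosedImmersion) D (AmpleEmbed.iSup_basicOpen_X n k) fun i => ?_
  haveI : IsAffine (D i : Scheme) := hDaff i
  haveI : IsAffine (r ⁻¹ᵁ D i : Scheme) := (hDaff i).preimage r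
  refine IsClosedImmersion.of_surjective_of_isAffine _ ?_
  let S : Subring Γ(X, U i) := (r.appLE (D i) (U i) (hpre i).ge).hom.range
  let e : Γ(L, U i) := AModX.res L (le_top : U i ≤ ⊤) (s i)
  have hconst : ∀ c : k, AModX.resR (le_top : U i ≤ ⊤) (f.appTop ((Scheme.ΓSpecIso (CommRingCat.of k)).inv c)) ∈ S :=
    fun c => by
    refine ⟨(CohB1.ProjSpace.toSpec n k).appLE ⊤ (D i) le_top ((Scheme.ΓSpecIso (CommRingCat.of k)).inv c), ?_⟩
    rw [← CommRingCat.comp_apply, Scheme.Hom.appLE_comp_appLE]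
    simp only [hr]
    rfl
  have he : IsFrame e := TrivBasic.isFrame_res_of_le_locus le_rfl
  have hj : ∀ j, ∃ β ∈ S, AModX.res L (le_top : U i ≤ ⊤) (s j) = β • e := fun j => by
    obtain ⟨β, hβ⟩ := he.exists_coord le_rfl (AModX.res L (le_top : U i ≤ ⊤) (s j))
    rw [AModX.res_self] at hβ
    refine ⟨β, ⟨(Proj.awayToSection (CohB1.polyGrading n k) (MvPolynomial.X i)).hom
      (Away.mk (CohB1.polyGrading n k) (ProjPt.X_mem _) 1 (MvPolynomial.X j)
        (by rw [one_smul]; exact ProjPt.X_mem _)), ?_⟩, hβ⟩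
    exact AmpleEmbed.ratioOf_eq r τ _ _ (hτ i) (hτ j) (hpre i).ge β hβ
  have h1 : ∀ z : Γ(L, ⊤), ∃ β ∈ S, AModX.res L (le_top : U i ≤ ⊤) z = β • e := fun z => by
    obtain ⟨c, rfl⟩ := hspan z
    rw [map_sum]
    refine Finset.sum_induction _ (fun w => ∃ β ∈ S, w = β • e) ?_ ⟨0, S.zero_mem, (zero_smul _ _).symm⟩ fun j _ => ?_
    · rintro _ _ ⟨β, hβ, rfl⟩ ⟨γ, hγ, rfl⟩
      exact ⟨β + γ, S.add_mem hβ hγ, (add_smul _ _ _).symm⟩
    · obtain ⟨β, hβ, hjβ⟩ := hj j
      refine ⟨_, S.mul_mem (hconst (c j)) hβ, ?_⟩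
      rw [AModX.res_smul, hjβ, mul_smul]
  have hall : ∀ m (T : Γ(P L m, ⊤)), ∃ β ∈ S, AModX.res (P L m) (le_top : U i ≤ ⊤) T = β • E e m := by
    intro m
    induction m with
    | zero => exact h1
    | succ m ih =>
      intro T
      obtain ⟨a, v, t, t', rfl⟩ := hm m T
      obtain ⟨α, hα, ha⟩ := ih a
      obtain ⟨γ, hγ, hv⟩ := ih v
      obtain ⟨β, hβ, ht⟩ := h1 t
      obtain ⟨β', hβ', ht'⟩ := h1 t'
      refine ⟨α * β + γ * β', S.add_mem (S.mul_mem hα hβ) (S.mul_mem hγ hβ'), ?_⟩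
      show AModX.res (CohB1.tensorMod (P L m) L) _ (InvX.tmul a t + InvX.tmul v t') = _
      rw [map_add, InvX.res_tmul, InvX.res_tmul, ha, hv, ht, ht', InvX.tmul_smul_left, InvX.tmul_smul_right,
        InvX.tmul_smul_left, InvX.tmul_smul_right, ← mul_smul, ← mul_smul, add_smul]
      rfl
  have hsurj : Function.Surjective (r.appLE (D i) (U i) (hpre i).ge) := fun b => by
    show b ∈ S
    obtain ⟨m, T, hT⟩ := AmpleVan.exists_extend (ProjUPX.isQCoh_of_isInvertible hL) hL (ofSect (s i))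
      (show Γ(L, U i) from b • e)
    rw [one_ofSect] at hT
    obtain ⟨β, hβ, hTβ⟩ := hall m T
    have h2 : b • E e m = β • E e m := ((pw_app (s i) (U i) b m).symm.trans hT.symm).trans hTβ
    rw [(isFrame_E he m).coord_unique le_rfl (r := b) (r' := β) (by rw [AModX.res_self]; exact h2)]
    exact hβ
  intro z
  rw [morphismRestrict_appTop]
  obtain ⟨y, hy⟩ := hsurj (X.presheaf.map (eqToHom (hpre i).symm).op
    ((r ⁻¹ᵁ D i).topIso.hom z))
  refine ⟨(D i).topIso.inv y, (ConcreteCategory.bijective_of_isIso (r ⁻¹ᵁ D i).topIso.hom).1 ?_⟩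
  apply (ConcreteCategory.bijective_of_isIso (X.presheaf.map (eqToHom (hpre i).symm).op)).1
  rw [← hy]
  simp only [← CommRingCat.comp_apply]
  congr 2
  simp only [Scheme.Hom.appLE, Scheme.Opens.topIso, Category.assoc]
  simp [← Functor.map_comp]
  rw [r.naturality_assoc, ← Functor.map_comp]
  rfl

end Groth.Agent.CurveEmbed
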