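import Groth.Agent.CurveEmbed.DegOne
import Groth.Agent.CurveBC.Geometry
import Groth.Agent.SchTorsor.Props
import Groth.Agent.ZetaLib.ProjPoints
import Groth.Agent.H23.PnChart

/-! Geometrically integral curves of genus zero. -/

noncomputable section

set_option linter.style.haveILetI false
set_option linter.unusedSectionVars false
set_option backward.isDefEq.respectTransparency false
set_option backward.isDefEq.respectTransparency.types false

universe u

open CategoryTheory CategoryTheory.Limits AlgebraicGeometry TopologicalSpace Opposite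

attribute [local instance] Curv2.resAlgebra

namespace Groth.Agent.CurveEmbed

open Groth.Agent

theorem smooth_toSpec (n : ℕ) (k : Type u) [Field k] : Smooth (CohB1.ProjSpace.toSpec n k) := by
  refine IsZariskiLocalAtSource.of_iSup_eq_top (fun i => (ZetaLib.chart n k i).opensRange) ?_ fun i => ?_
  · refine top_le_iff.1 fun x _ => ?_
    obtain ⟨i, hi⟩ := Opens.mem_iSup.1 ((AmpleEmbed.iSup_basicOpen_X n k).ge (trivial : x ∈ (⊤ : Opens _)))
    exact Opens.mem_iSup.2 ⟨i, (ZetaLib.mem_range_chart i x).2 hi⟩
  rw [← Scheme.Hom.isoOpensRange_inv_comp, Category.assoc, ZetaLib.chart_toSpec]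
  haveI : Smooth (Spec.map (CommRingCat.ofHom (ZetaLib.base n k i))) := by
    rw [HasRingHomProperty.Spec_iff (P := @Smooth)]
    show (ZetaLib.base n k i).Smooth
    have h : ZetaLib.base n k i = (H23.PnChart.fromChart n k i).comp MvPolynomial.C :=
      RingHom.ext fun c => (MvPolynomial.eval₂Hom_C _ _ c).symm
    rw [h]
    refine RingHom.Smooth.stableUnderComposition _ _ ?_ (RingHom.Smooth.of_bijective
      ⟨H23.PnChart.fromChart_injective n k i, H23.PnChart.fromChart_surjective n k i⟩)
    exact RingHom.smooth_algebraMap.2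
      (⟨inferInstance, inferInstance⟩ : Algebra.Smooth k (MvPolynomial (H23.PnChart.Idx n i) k))
  infer_instance

/-- The coordinate point. -/
theorem exists_point (n : ℕ) (k : Type u) [Field k] :
    ∃ s : Spec (CommRingCat.of k) ⟶ CohB1.ProjSpace n k, s ≫ CohB1.ProjSpace.toSpec n k = 𝟙 _ := by
  obtain ⟨r, hr, -⟩ := S3572.result n (𝟙 (Spec (CommRingCat.of k))) (Coh.structureModule _)
    InvX.isInvertible_structureModule (fun _ => (1 : Γ(Spec (CommRingCat.of k), ⊤)))
    (AVAmple.generatedBy_of_locus _ fun x => ⟨0,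
      (H23.TrivBasic.locus_eq_top_iff.2 (InvX.isFrame_one ⊤)).ge trivial⟩)
  exact ⟨r, hr⟩

variable {X : Scheme.{u}} (k : Type u) [Field k] [X.Over (Spec (CommRingCat.of k))] [IsIntegral X]
  [IsProper (X ↘ Spec (CommRingCat.of k))]

include k in
/-- Points where a curve is smooth are normal. -/
theorem isIntegrallyClosed_of_smooth (hdim : topologicalKrullDim X = 1) {x : X}
    (hx : IsClosed ({x} : Set X)) (hs : x ∈ (X ↘ Spec (CommRingCat.of k)).smoothLocus) :
    IsIntegrallyClosed (X.presheaf.stalk x) := by
  haveI := CurveCohLib.isNoetherian_of_proper (k := k) (X := X)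
  have hreg : IsRegularLocalRing (X.presheaf.stalk x) :=
    SmoothReg.isRegularLocalRing_stalk_of_mem_smoothLocus (X ↘ Spec (CommRingCat.of k)) hs
  have hd : ringKrullDim (X.presheaf.stalk x) = 1 :=
    (SmoothReg.ringKrullDim_stalk_closedPoint (X ↘ Spec (CommRingCat.of k)) hx).trans hdim
  haveI : IsDiscreteValuationRing (X.presheaf.stalk x) := by
    refine IsLocalRing.finrank_CotangentSpace_eq_one_iff.mp ?_
    rw [IsRegularLocalRing.iff_finrank_cotangentSpace, hd] at hreg
    exact_mod_cast hreg
  infer_instance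

include k in
/-- A rational smooth point and `H¹(O) = 0` give the projective line. -/
theorem exists_iso_line_of_point (hdim : topologicalKrullDim X = 1)
    (h1 : Subsingleton (Coh.HH X (Coh.structureModule X) 1)) {x : X}
    (hx : IsClosed ({x} : Set X)) (hs : x ∈ (X ↘ Spec (CommRingCat.of k)).smoothLocus)
    (hres : Function.Surjective (Curv2.resMap k X x)) :
    ∃ e : X ≅ CohB1.ProjSpace 1 k, e.hom ≫ CohB1.ProjSpace.toSpec 1 k = X ↘ Spec (CommRingCat.of k) := by
  obtain ⟨L, hL, hd⟩ := exists_deg_one k hdim {x} (fun y hy => Finset.mem_singleton.1 hy ▸ hx)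
    (fun y hy => Finset.mem_singleton.1 hy ▸ isIntegrallyClosed_of_smooth k hdim hx hs)
    (by
      rw [Finset.gcd_singleton, normalize_eq]
      have hb : Function.Bijective (Algebra.linearMap k (X.residueField x)) :=
        ⟨(Curv2.resMap k X x).injective, hres⟩
      rw [← (LinearEquiv.ofBijective _ hb).finrank_eq, Module.finrank_self])
  exact exists_iso_line k hdim h1 hL hd

section Bar

variable (X) [GeometricallyIntegral (X ↘ Spec (CommRingCat.of k))]

local notation "K" => AlgebraicClosure k

/-- Geometrically integral curves of arithmetic genus at most zero. -/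
theorem conic (hdim : topologicalKrullDim X = 1)
    (hpa : 1 - Curv2.euler k X (Coh.structureModule X) ≤ 0) :
    Smooth (X ↘ Spec (CommRingCat.of k)) ∧
      ((∃ e : X ≅ CohB1.ProjSpace 1 k, e.hom ≫ CohB1.ProjSpace.toSpec 1 k = X ↘ Spec (CommRingCat.of k)) ↔
        ∃ s : Spec (CommRingCat.of k) ⟶ X, s ≫ (X ↘ Spec (CommRingCat.of k)) = 𝟙 _) := by
  haveI := CurveCohLib.isNoetherian_of_proper (k := k) (X := X)
  let X' := Curv2.bc k X K
  letI : X'.Over (Spec (CommRingCat.of K)) := ⟨Curv2.bcSnd k X K⟩
  let π := Curv2.bcFst k X K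
  have hpb : IsPullback π (X' ↘ Spec (CommRingCat.of K)) (X ↘ Spec (CommRingCat.of k))
      (Spec.map (CommRingCat.ofHom (algebraMap k K))) := IsPullback.of_hasPullback _ _
  haveI : IsProper (X' ↘ Spec (CommRingCat.of K)) := CurveBC.isProper k K π hpb
  haveI : Subsingleton (Spec (CommRingCat.of K)) := inferInstanceAs (Subsingleton (PrimeSpectrum K))
  haveI : GeometricallyIntegral (X' ↘ Spec (CommRingCat.of K)) :=
    inferInstanceAs (GeometricallyIntegral (pullback.snd (X ↘ Spec (CommRingCat.of k)) _))
  haveI : IsIntegral X' := GeometricallyIntegral.isIntegral_of_subsingleton (X' ↘ Spec (CommRingCat.of K))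
  haveI := CurveCohLib.isNoetherian_of_proper (k := K) (X := X')
  have hd' := CurveBC.topologicalKrullDim_eq k K π hpb hdim
  have hbij : Module.finrank K (Coh.HH X' (Coh.structureModule X') 0) = 1 := by
    obtain ⟨x, hx⟩ : ∃ x : X', IsClosed ({x} : Set X') := by
      haveI : JacobsonSpace X' := LocallyOfFiniteType.jacobsonSpace (X' ↘ Spec (CommRingCat.of K))
      obtain ⟨x, -, hx⟩ := nonempty_inter_closedPoints (Set.univ_nonempty (α := X')) isClosed_univ.isLocallyClosed
      exact ⟨x, hx⟩
    let Q := ClSub.quotMod (CurvePoint.ptIdeal x hx)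
    have h1 := deg_point K hx
    have hQc : Coh.IsCoh Q := ParShLib.isCoh_quotMod _
    have he := CurveBundle.euler_add' K _ _ _ (CurvePoint.shortExact_pt x hx)
      (QCoh.isCoh_kernel QCoh.isCoh_structureModule' hQc _) QCoh.isCoh_structureModule' hQc
    haveI := CurveVanish.subsingleton_HH_of_finite (M := Q) (Set.finite_singleton x)
      (fun y hy => (Set.mem_singleton_iff.1 hy) ▸ hx)
      (fun y hy => CurvePoint.subsingleton_stalk_of_ne x hx fun h => hy h) 0
    have he' : Curv2.euler K X' (Coh.structureModule X') =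
        Curv2.euler K X' (CurvePoint.ptMod x hx) + Curv2.euler K X' Q := he
    have h2 : Curv2.euler K X' Q = (Module.finrank K (Coh.HH X' Q 0) : ℤ) - Module.finrank K (Coh.HH X' Q 1) :=
      CurveRR.euler_eq_h0_sub_h1 K hd'.le hQc.1
    rw [Module.finrank_zero_of_subsingleton (R := K) (M := Coh.HH X' Q 1)] at h2
    have hres : Module.finrank K (X'.residueField x) = 1 := by
      have hb : Function.Bijective (Algebra.linearMap K (X'.residueField x)) :=
        ⟨(Curv2.resMap K X' x).injective, CurveSection.surjective_resMap K hx⟩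
      rw [← (LinearEquiv.ofBijective _ hb).finrank_eq, Module.finrank_self]
    have hQ1 : Module.finrank K (Coh.HH X' Q 0) = 1 := by
      rw [hres] at h1
      unfold Curv2.deg at h1
      push_cast at h1 h2
      omega
    exact Nat.dvd_one.1 (hQ1 ▸ h0_structure_dvd K Q)
  have h0 : Module.finrank k (Coh.HH X (Coh.structureModule X) 0) = 1 :=
    (CurveBC.finrank_hh_unit k K π hpb 0).symm.trans hbij
  haveI := CurveCohLib.finite_HH (k := k) (QCoh.isCoh_structureModule' (X := X)) 1
  have hg : Module.finrank k (Coh.HH X (Coh.structureModule X) 1) = 0 := by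
    have h := CurveRR.euler_eq_h0_sub_h1 k hdim.le (QCoh.isQCoh_structureModule (X := X))
    omega
  have h1 : Subsingleton (Coh.HH X (Coh.structureModule X) 1) := Module.finrank_zero_iff.1 hg
  haveI := CurveCohLib.finite_HH (k := K) (QCoh.isCoh_structureModule' (X := X')) 1
  have h1' : Subsingleton (Coh.HH X' (Coh.structureModule X') 1) :=
    Module.finrank_zero_iff.1 ((CurveBC.finrank_hh_unit k K π hpb 1).trans hg)
  have hsmooth : Smooth (X ↘ Spec (CommRingCat.of k)) := by
    haveI : JacobsonSpace X' := LocallyOfFiniteType.jacobsonSpace (X' ↘ Spec (CommRingCat.of K))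
    obtain ⟨z, hz, hzc⟩ := nonempty_inter_closedPoints
      (X' ↘ Spec (CommRingCat.of K)).dense_smoothLocus_of_perfectField.nonempty
      (X' ↘ Spec (CommRingCat.of K)).smoothLocus.2.isLocallyClosed
    obtain ⟨e, he⟩ := exists_iso_line_of_point K hd' h1' hzc hz (CurveSection.surjective_resMap K hzc)
    haveI := smooth_toSpec 1 K
    have hs' : Smooth (X' ↘ Spec (CommRingCat.of K)) := he ▸ inferInstance
    haveI hf : Flat (Spec.map (CommRingCat.ofHom (algebraMap k K))) := by
      rw [HasRingHomProperty.Spec_iff (P := @Flat)]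
      exact RingHom.flat_algebraMap_iff.2 inferInstance
    haveI : Subsingleton (Spec (CommRingCat.of k)) := inferInstanceAs (Subsingleton (PrimeSpectrum k))
    haveI : Nonempty (Spec (CommRingCat.of K)) := inferInstanceAs (Nonempty (PrimeSpectrum K))
    exact MorphismProperty.of_pullback_snd_of_descendsAlong (P := @Smooth)
      (Q := @Surjective ⊓ @Flat ⊓ @QuasiCompact)
      ⟨⟨⟨fun y => ⟨Classical.arbitrary _, Subsingleton.elim _ _⟩⟩, hf⟩, inferInstance⟩ hs'
  refine ⟨hsmooth, fun ⟨e, he⟩ => ?_, fun ⟨s, hs⟩ => ?_⟩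
  · obtain ⟨p, hp⟩ := exists_point 1 k
    refine ⟨p ≫ e.inv, ?_⟩
    rw [← he, Category.assoc, e.inv_hom_id_assoc, hp]
  · let f := X ↘ Spec (CommRingCat.of k)
    let a := IsLocalRing.closedPoint k
    haveI : IsClosedImmersion s := by
      haveI : IsClosedImmersion (s ≫ f) := by rw [hs]; infer_instance
      exact IsClosedImmersion.of_comp s f
    have hx : IsClosed ({s a} : Set X) := by
      have : ({s a} : Set X) = Set.range s := by
        haveI : Subsingleton (Spec (CommRingCat.of k)) := inferInstanceAs (Subsingleton (PrimeSpectrum k))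
        exact Set.ext fun y => ⟨fun h => ⟨a, h.symm⟩, fun ⟨b, hb⟩ => by
          rw [Set.mem_singleton_iff, ← hb, Subsingleton.elim b a]⟩
      rw [this]
      exact s.isClosedEmbedding.isClosed_range
    refine exists_iso_line_of_point k hdim h1 hx ?_ ?_
    · rw [(Scheme.Hom.smoothLocus_eq_top_iff (f := f)).2 hsmooth]; trivial
    · intro y
      let ρ := Scheme.descResidueField (Scheme.stalkClosedPointTo s)
      have hs' : Spec.map ρ ≫ X.fromSpecResidueField (s a) = s :=
        Scheme.descResidueField_stalkClosedPointTo_fromSpecResidueField k X s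
      have hsec : CommRingCat.ofHom (Curv2.resMap k X (s a)) ≫ ρ = 𝟙 (CommRingCat.of k) := by
        apply Spec.map_injective
        rw [Spec.map_comp, Spec.map_id, ← GeomConn5.spec_resMap, ← Category.assoc, hs', hs]
      refine ⟨ρ y, ρ.hom.injective ?_⟩
      exact congr(($hsec).hom (ρ.hom y))

end Bar

end Groth.Agent.CurveEmbed
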