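import Groth.Agent.CurveEmbed.Line
import Groth.Agent.Lib.CurvePoint
import Groth.Agent.MeroX.EffCartier
import Groth.Agent.S8914
import Groth.Agent.H23.PicInv
import Groth.Agent.CurveFF.Facts
import Mathlib.RingTheory.DiscreteValuationRing.TFAE

/-! Degree one modules from normal points with coprime residue degrees. -/

noncomputable section

set_option linter.style.haveILetI false
set_option linter.unusedSectionVars false
set_option backward.isDefEq.respectTransparency false
set_option backward.isDefEq.respectTransparency.types false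

universe u

open CategoryTheory CategoryTheory.Limits AlgebraicGeometry TopologicalSpace Opposite

attribute [local instance] Curv2.resAlgebra

namespace Groth.Agent.CurveEmbed

open Groth.Agent Groth.Agent.CurveBundle Groth.Agent.CurvePoint

variable {X : Scheme.{u}} (k : Type u) [Field k] [X.Over (Spec (CommRingCat.of k))] [IsIntegral X]
  [IsProper (X ↘ Spec (CommRingCat.of k))]

theorem genericPoint_not_closed (hdim : topologicalKrullDim X = 1) :
    ¬ IsClosed ({genericPoint X} : Set X) := fun h' => by
  have h : ∀ y : X, y = genericPoint X := fun y =>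
    ((genericPoint_spec X).specializes (Set.mem_univ y)).mem_closed h' (Set.mem_singleton _)
  haveI : Subsingleton (IrreducibleCloseds X) := ⟨fun a b => IrreducibleCloseds.ext <| by
    obtain ⟨p, hp⟩ := a.isIrreducible.nonempty
    obtain ⟨q, hq⟩ := b.isIrreducible.nonempty
    ext y
    exact ⟨fun _ => by rw [h y, ← h q]; exact hq, fun _ => by rw [h y, ← h p]; exact hp⟩⟩
  have : topologicalKrullDim X ≤ 0 := Order.krullDim_nonpos_of_subsingleton
  rw [hdim] at this
  exact absurd this (by norm_num)

include k in
/-- A normal closed point of a curve has a discrete valuation ring. -/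
theorem isDVR_of_normal (hdim : topologicalKrullDim X = 1) {x : X} (hx : IsClosed ({x} : Set X))
    (hn : IsIntegrallyClosed (X.presheaf.stalk x)) : IsDiscreteValuationRing (X.presheaf.stalk x) := by
  haveI := CurveCohLib.isNoetherian_of_proper (k := k) (X := X)
  let R := X.presheaf.stalk x
  let φ := X.fromSpecStalk x
  have hinj : Function.Injective φ := φ.isEmbedding.injective
  have hcl : φ (IsLocalRing.closedPoint R) = x := Scheme.fromSpecStalk_closedPoint
  let bot : PrimeSpectrum R := ⟨⊥, Ideal.bot_prime⟩
  have hη : φ bot = genericPoint X := by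
    obtain ⟨q, hq⟩ := ((X.range_fromSpecStalk (x := x)).ge ((genericPoint_spec X).specializes (Set.mem_univ x)))
    have h1 : φ bot ⤳ genericPoint X := hq ▸
      (((PrimeSpectrum.le_iff_specializes bot q).1 (bot_le (a := q.asIdeal))).map φ.continuous)
    exact h1.antisymm ((genericPoint_spec X).specializes (Set.mem_univ _)) |>.eq
  have hnf : ¬ IsField R := fun hf => by
    have h1 : bot = IsLocalRing.closedPoint R := PrimeSpectrum.ext (IsLocalRing.isField_iff_maximalIdeal_eq.1 hf).symm
    exact genericPoint_not_closed hdim ((hη ▸ h1 ▸ hcl : genericPoint X = x) ▸ hx)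
  refine ((IsDiscreteValuationRing.TFAE R hnf).out 0 3 rfl rfl).mpr ⟨hn, IsLocalRing.maximalIdeal R,
    ⟨fun h => hnf (IsLocalRing.isField_iff_maximalIdeal_eq.2 h), inferInstance⟩, ?_⟩
  rintro P ⟨hP0, hP⟩
  have hPx : φ ⟨P, hP⟩ = x := by
    by_cases hc : IsClosed ({φ ⟨P, hP⟩} : Set X)
    · exact ((X.range_fromSpecStalk (x := x)).le ⟨_, rfl⟩ : φ ⟨P, hP⟩ ⤳ x).mem_closed hc rfl |>.symm
    · exact absurd (congrArg PrimeSpectrum.asIdeal
        (hinj ((CurveCohLib.eq_genericPoint_of_not_isClosed hdim hc).trans hη.symm))) hP0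
  exact congrArg PrimeSpectrum.asIdeal (hinj (hPx.trans hcl.symm))

include k in
/-- A normal closed point is an effective Cartier divisor. -/
theorem isEffCartier_point (hdim : topologicalKrullDim X = 1) {x : X} (hx : IsClosed ({x} : Set X))
    (hn : IsIntegrallyClosed (X.presheaf.stalk x)) : BlowUp.IsEffCartierIdeal (ptIdeal x hx) := by
  haveI := CurveCohLib.isNoetherian_of_proper (k := k) (X := X)
  haveI := isDVR_of_normal k hdim hx hn
  refine MeroX.isEffCartier_of_stalk _ fun y hy U hyU => ?_
  obtain rfl : y = x := Set.mem_singleton_iff.1 (show y ∈ ((ptIdeal x hx).support : Set X) from hy)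
  obtain ⟨ϖ, hϖ⟩ := IsDiscreteValuationRing.exists_irreducible (X.presheaf.stalk y)
  refine ⟨ϖ, mem_nonZeroDivisors_of_ne_zero hϖ.ne_zero, ?_⟩
  rw [← hϖ.maximalIdeal_eq]
  letI := X.presheaf.algebra_section_stalk ⟨y, hyU⟩
  haveI := U.2.isLocalization_stalk ⟨y, hyU⟩
  have hI : (ptIdeal y hx).ideal U = (U.2.primeIdealOf ⟨y, hyU⟩).asIdeal := by
    show PrimeSpectrum.vanishingIdeal (U.2.fromSpec ⁻¹' {y}) = _
    have h1 : U.2.fromSpec ⁻¹' {y} = {U.2.primeIdealOf ⟨y, hyU⟩} := by
      ext p
      constructor
      · intro hp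
        exact U.2.fromSpec.isOpenEmbedding.injective (hp.trans (U.2.fromSpec_primeIdealOf ⟨y, hyU⟩).symm)
      · rintro rfl
        exact U.2.fromSpec_primeIdealOf ⟨y, hyU⟩
    rw [h1, PrimeSpectrum.vanishingIdeal_singleton]
  rw [hI]
  exact IsLocalization.AtPrime.map_eq_maximalIdeal _ _

include k in
theorem isInvertible_point (hdim : topologicalKrullDim X = 1) {x : X} (hx : IsClosed ({x} : Set X))
    (hn : IsIntegrallyClosed (X.presheaf.stalk x)) : PicF.IsInvertible (ptMod x hx) :=
  (S8914.result _).2 (isEffCartier_point k hdim hx hn)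

include k in
/-- The degree of the ideal of a closed point. -/
theorem deg_point {x : X} (hx : IsClosed ({x} : Set X)) :
    Curv2.deg k X (ptMod x hx) 1 = -(Module.finrank k (X.residueField x) : ℤ) := by
  classical
  haveI := CurveCohLib.isNoetherian_of_proper (k := k) (X := X)
  have hQc : Coh.IsCoh (ClSub.quotMod (ptIdeal x hx)) := ParShLib.isCoh_quotMod _
  have hS := shortExact_pt x hx
  have he := euler_add' k _ _ _ hS (QCoh.isCoh_kernel QCoh.isCoh_structureModule' hQc _)
    QCoh.isCoh_structureModule' hQc
  obtain ⟨h, -⟩ := CurveCohLib.euler_eq_sum_stalks (k := k) hQc (closed_support x hx) {x}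
    (by simpa using support_quot_subset x hx)
  rw [Finset.sum_singleton] at h
  let Q := ClSub.quotMod (ptIdeal x hx)
  letI := CurveCohLib.stalkModuleK k Q x
  obtain ⟨q₀, hq₀⟩ : ∃ q₀ : Q.presheaf.stalk x, ∀ q, ∃ a : X.presheaf.stalk x, q = a • q₀ :=
    ParShLib.exists_germ_smul (ptIdeal x hx) x
  have hker : ∀ a : X.presheaf.stalk x, a • q₀ = 0 ↔ a ∈ IsLocalRing.maximalIdeal (X.presheaf.stalk x) := by
    refine fun a => ⟨fun h0 => ?_, fun ha => smul_quot_eq_zero x hx ha q₀⟩
    by_contra ha
    have hu : IsUnit a := not_not.1 fun h => ha ((IsLocalRing.mem_maximalIdeal _).2 h)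
    refine not_subsingleton_stalk x hx (subsingleton_of_forall_eq 0 fun q => ?_)
    obtain ⟨b, rfl⟩ := hq₀ q
    rw [(IsUnit.smul_eq_zero hu).1 h0, smul_zero]
  let L : X.residueField x →+ Q.presheaf.stalk x :=
    { toFun := fun c => (Scheme.residue_surjective X x c).choose • q₀
      map_zero' := (hker _).2 ((IsLocalRing.residue_eq_zero_iff _).1
        (Scheme.residue_surjective X x 0).choose_spec)
      map_add' := fun a b => by
        rw [← add_smul, ← sub_eq_zero, ← sub_smul]
        refine (hker _).2 ((IsLocalRing.residue_eq_zero_iff _).1 ?_)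
        rw [map_sub, map_add]
        show X.residue x _ - (X.residue x _ + X.residue x _) = 0
        rw [(Scheme.residue_surjective X x (a + b)).choose_spec, (Scheme.residue_surjective X x a).choose_spec,
          (Scheme.residue_surjective X x b).choose_spec, sub_self] }
  have hLres : ∀ a : X.presheaf.stalk x, L (X.residue x a) = a • q₀ := fun a => by
    show (Scheme.residue_surjective X x (X.residue x a)).choose • q₀ = a • q₀
    rw [← sub_eq_zero, ← sub_smul]
    refine (hker _).2 ((IsLocalRing.residue_eq_zero_iff _).1 ?_)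
    rw [map_sub]
    show X.residue x _ - X.residue x _ = 0
    rw [(Scheme.residue_surjective X x (X.residue x a)).choose_spec, sub_self]
  have hbij : Function.Bijective L := by
    refine ⟨(injective_iff_map_eq_zero L).2 fun c hc => ?_, fun q => ?_⟩
    · obtain ⟨a, rfl⟩ := Scheme.residue_surjective X x c
      rw [hLres, hker] at hc
      exact (IsLocalRing.residue_eq_zero_iff a).2 hc
    · obtain ⟨a, rfl⟩ := hq₀ q
      exact ⟨X.residue x a, hLres a⟩
  have hfr : Module.finrank k (X.residueField x) = Module.finrank k (Q.presheaf.stalk x) := by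
    refine LinearEquiv.finrank_eq (LinearEquiv.ofBijective
      { toFun := L
        map_add' := L.map_add
        map_smul' := fun c r => by
          obtain ⟨a, rfl⟩ := Scheme.residue_surjective X x r
          rw [Algebra.smul_def]
          show L (X.residue x (Curv2.stalkMap k X x c) * X.residue x a) = _
          rw [← map_mul, hLres, hLres, mul_smul]
          rfl } hbij)
  unfold Curv2.deg
  rw [hfr]
  push_cast
  linarith

include k in
/-- Normal points with coprime residue degrees give a module of degree one. -/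
theorem exists_deg_one (hdim : topologicalKrullDim X = 1) (s : Finset X)
    (hcl : ∀ x ∈ s, IsClosed ({x} : Set X)) (hn : ∀ x ∈ s, IsIntegrallyClosed (X.presheaf.stalk x))
    (hgcd : s.gcd (fun x => Module.finrank k (X.residueField x)) = 1) :
    ∃ L : X.Modules, PicF.IsInvertible L ∧ Curv2.deg k X L 1 = 1 := by
  haveI := CurveCohLib.isNoetherian_of_proper (k := k) (X := X)
  let D : AddSubgroup ℤ :=
    { carrier := {d | ∃ L : X.Modules, PicF.IsInvertible L ∧ Curv2.deg k X L 1 = d}
      zero_mem' := ⟨_, CurveDeg.isInvertible_structureModule, CurveDeg.deg_structureModule k⟩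
      add_mem' := by
        rintro _ _ ⟨L, hL, rfl⟩ ⟨M, hM, rfl⟩
        exact ⟨_, InvX.isInvertible_tensorMod hL hM, CurveRR.deg_tensor k hdim hL hM⟩
      neg_mem' := by
        rintro _ ⟨L, hL, rfl⟩
        obtain ⟨M, hM, ⟨e⟩⟩ := H23.PicInv.exists_inverse hL
        refine ⟨M, hM, ?_⟩
        have h1 := CurveRR.deg_tensor k hdim hL hM
        have h2 : Curv2.deg k X ((DCoh.tensorBi.obj L).obj M) 1 = Curv2.deg k X (Coh.structureModule X) 1 :=
          CurveRR.deg_congr k e 1
        rw [h2, CurveDeg.deg_structureModule] at h1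
        omega }
  obtain ⟨g, hg⟩ := Int.subgroup_cyclic D
  rw [← AddSubgroup.zmultiples_eq_closure] at hg
  have hdvd : ∀ x ∈ s, g ∣ (Module.finrank k (X.residueField x) : ℤ) := fun x hx => by
    have hm : (Module.finrank k (X.residueField x) : ℤ) ∈ D :=
      neg_neg (Module.finrank k (X.residueField x) : ℤ) ▸
        D.neg_mem ⟨_, isInvertible_point k hdim (hcl x hx) (hn x hx), deg_point k (hcl x hx)⟩
    rw [hg, Int.mem_zmultiples_iff] at hm
    exact hm
  have h1 : g.natAbs ∣ 1 := hgcd ▸ Finset.dvd_gcd fun x hx => Int.natAbs_dvd_natAbs.2 (hdvd x hx)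
  have h2 : (1 : ℤ) ∈ D := by
    rw [hg, Int.mem_zmultiples_iff]
    exact Int.natAbs_dvd.1 (by exact_mod_cast h1)
  exact h2

end Groth.Agent.CurveEmbed
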