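import Groth.Agent.CurveEmbed.Points

/-! Two sections of a degree one module give the projective line. -/

noncomputable section

set_option linter.style.haveILetI false
set_option linter.unusedSectionVars false
set_option backward.isDefEq.respectTransparency false
set_option backward.isDefEq.respectTransparency.types false

universe u

open CategoryTheory CategoryTheory.Limits AlgebraicGeometry TopologicalSpace Opposite
open Groth.Agent.PnCoh.Finite (mapLin)

namespace Groth.Agent.CurveEmbed

open Groth.Agent Groth.Agent.CurveBundle Groth.Agent.CurveSlope Groth.Agent.InvX Groth.Agent.H23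

variable {X : Scheme.{u}} (k : Type u) [Field k] [X.Over (Spec (CommRingCat.of k))] [IsIntegral X]
  [IsProper (X ↘ Spec (CommRingCat.of k))]

include k in
/-- The dimension of the global functions divides that of any space of sections. -/
theorem h0_structure_dvd (M : X.Modules) :
    Module.finrank k (Coh.HH X (Coh.structureModule X) 0) ∣ Module.finrank k (Coh.HH X M 0) := by
  let f := X ↘ Spec (CommRingCat.of k)
  letI : Field Γ(X, ⊤) := (isField_of_universallyClosed k f).toField
  letI : Algebra k Γ(X, ⊤) := (f.appTop.hom.comp (Scheme.ΓSpecIso (CommRingCat.of k)).inv.hom).toAlgebra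
  have hrank : ∀ M : X.Modules,
      letI : Module k Γ(M, ⊤) := Module.compHom _ (algebraMap k Γ(X, ⊤))
      Module.finrank k (Coh.HH X M 0) = Module.finrank k Γ(M, ⊤) := fun M => by
    letI : Module k Γ(M, ⊤) := Module.compHom _ (algebraMap k Γ(X, ⊤))
    refine LinearEquiv.finrank_eq (LinearEquiv.ofBijective
      { toFun := fun t => (show Γ(M, ⊤) from Sheaf.H.equiv₀ (Coh.toAb M) isTerminalTop t)
        map_add' := fun a b => map_add _ a b
        map_smul' := fun a t => by
          refine (CurveCohLib.h0Equiv_smul M a t).trans ?_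
          exact congrArg (· • _) (ConcreteCategory.congr_hom (X.presheaf.map_id (op ⊤)) _) }
      (Sheaf.H.equiv₀ (Coh.toAb M) isTerminalTop).bijective)
  letI : Module k Γ(M, ⊤) := Module.compHom _ (algebraMap k Γ(X, ⊤))
  haveI : IsScalarTower k Γ(X, ⊤) Γ(M, ⊤) := IsScalarTower.of_compHom k Γ(X, ⊤) Γ(M, ⊤)
  have hO : Module.finrank k (Coh.HH X (Coh.structureModule X) 0) = Module.finrank k Γ(X, ⊤) := by
    rw [hrank]
    letI : Module k Γ(Coh.structureModule X, ⊤) := Module.compHom _ (algebraMap k Γ(X, ⊤))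
    exact LinearEquiv.finrank_eq
      ({ toFun := fun t => (show Γ(X, ⊤) from t)
         invFun := fun t => t
         map_add' := fun _ _ => rfl
         map_smul' := fun _ _ => rfl
         left_inv := fun _ => rfl
         right_inv := fun _ => rfl } : Γ(Coh.structureModule X, ⊤) ≃ₗ[k] Γ(X, ⊤))
  rw [hO, hrank, ← Module.finrank_mul_finrank k Γ(X, ⊤) Γ(M, ⊤)]
  exact dvd_mul_right _ _

include k in
/-- The cokernel has as many sections as the jump in degree. -/
theorem h0_cokernel {M N : X.Modules} (hdim : topologicalKrullDim X = 1) (hM : PicF.IsInvertible M)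
    (hN : PicF.IsInvertible N) (ψ : M ⟶ N) [Mono ψ] (S : Finset X)
    (hS : ∀ x ∈ S, IsClosed ({x} : Set X)) (hout : SurjOff ψ S) :
    (Module.finrank k (Coh.HH X (cokernel ψ) 0) : ℤ) = Curv2.deg k X N 1 - Curv2.deg k X M 1 := by
  haveI := CurveCohLib.isNoetherian_of_proper (k := k) (X := X)
  have hMc := CurveDeg.isCoh_of_isInvertible hM
  have hNc := CurveDeg.isCoh_of_isInvertible hN
  have hC := QCoh.isCoh_cokernel hMc.1 hNc ψ
  haveI := CurveVanish.subsingleton_HH_of_finite (M := cokernel ψ) S.finite_toSet hS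
    (fun x hx => not_not.1 fun h => hx (support_cokernel_subset hout h)) 0
  have h1 := euler_add' k _ _ _ (shortExact_cokernel_of_mono ψ) hMc hNc hC
  have h2 := CurveRR.euler_eq_h0_sub_h1 k hdim.le hC.1
  rw [Module.finrank_zero_of_subsingleton (R := k) (M := Coh.HH X (cokernel ψ) 1)] at h2
  unfold Curv2.deg
  push_cast
  omega

include k in
/-- Two sections of a module of degree one give an isomorphism with the projective line. -/
theorem exists_iso_line_of_deg_one (hdim : topologicalKrullDim X = 1) {L : X.Modules}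
    (hL : PicF.IsInvertible L) (hdeg : Curv2.deg k X L 1 = 1)
    (h2 : 2 ≤ Module.finrank k (Coh.HH X L 0)) :
    ∃ e : X ≅ CohB1.ProjSpace 1 k,
      e.hom ≫ CohB1.ProjSpace.toSpec 1 k = X ↘ Spec (CommRingCat.of k) := by
  haveI := CurveCohLib.isNoetherian_of_proper (k := k) (X := X)
  haveI := CurveCohLib.finite_HH (k := k) (CurveDeg.isCoh_of_isInvertible hL) 0
  haveI := CurveCohLib.finite_HH (k := k) (QCoh.isCoh_structureModule' (X := X)) 0
  let e := Sheaf.H.equiv₀ (Coh.toAb L) isTerminalTop
  obtain ⟨t₀, ht₀⟩ := Module.finrank_pos_iff_exists_ne_zero.1 (show 0 < Module.finrank k (Coh.HH X L 0) by omega)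
  let s : Γ(L, ⊤) := e t₀
  have hs : s ≠ 0 := fun h => ht₀ (e.injective (h.trans (map_zero e).symm))
  obtain ⟨S, hScl, hS⟩ := exists_zeros k hdim hL hs
  have hO := CurveDeg.isInvertible_structureModule (X := X)
  haveI := InvEnd.mono_of_ne_zero hO hL _ (ofSect_ne_zero hs)
  have hout := surjOff_ofSect s S fun x hx => (hS x).1 hx
  have hC := h0_cokernel k hdim hO hL (ofSect s) S hScl hout
  rw [hdeg, CurveDeg.deg_structureModule] at hC
  have hC1 : Module.finrank k (Coh.HH X (cokernel (ofSect s)) 0) = 1 := by omega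
  have hm : Module.finrank k (Coh.HH X (Coh.structureModule X) 0) = 1 :=
    Nat.dvd_one.1 (hC1 ▸ h0_structure_dvd k (cokernel (ofSect s)))
  have hker := CurveCohLib.ker_mapLin_g k (shortExact_cokernel_of_mono (ofSect s)) 0
  have hnz : ∃ t, mapLin k (cokernel.π (ofSect s)) 0 t ≠ 0 := by
    by_contra! h
    have htop : LinearMap.range (mapLin k (ofSect s) 0) = ⊤ :=
      top_le_iff.1 fun t _ => hker.le (LinearMap.mem_ker.2 (h t))
    have := LinearMap.finrank_range_le (mapLin k (ofSect s) 0)
    rw [htop, finrank_top] at this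
    omega
  have hone : ∀ {V : Type u} [AddCommGroup V] [Module k V], Module.finrank k V = 1 →
      ∀ {W : Type u} [AddCommGroup W] [Module k W] (φ : W →ₗ[k] V), (∃ w, φ w ≠ 0) → Function.Surjective φ := by
    intro V _ _ hV W _ _ φ ⟨w, hw⟩ y
    obtain ⟨c, hc⟩ := (finrank_eq_one_iff_of_nonzero' (φ w) hw).1 hV y
    exact ⟨c • w, by rw [map_smul, hc]⟩
  have hsurj0 := hone hC1 _ hnz
  obtain ⟨t, hst⟩ := exists_complement_of_surj k hdim hL hs hsurj0
  obtain ⟨p, hp⟩ : ∃ p, p ∈ S := by
    by_contra! h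
    have hfr : IsFrame s := TrivBasic.locus_eq_top_iff.1 (top_le_iff.1 fun x _ => (hS x).1 (h x))
    obtain ⟨φ⟩ := TrivBasic.triv_of_frame hfr
    rw [CurveRR.deg_congr k φ 1, CurveDeg.deg_structureModule] at hdeg
    exact zero_ne_one hdeg
  have hsurj : ∀ m, Function.Surjective (mapLin k (cokernel.π (AmpleVan.mulSec s (P L m))) 0) := fun m => by
    have hP := isInvertible_P hL m
    have hP' := isInvertible_P hL (m + 1)
    haveI := InvEnd.mono_of_ne_zero hP hP' (AmpleVan.mulSec s (P L m)) (mulSec_ne_zero hL hP hs)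
    have hC := h0_cokernel k hdim hP hP' (AmpleVan.mulSec s (P L m)) S hScl
      (surjOff_mulSec hP s S fun x hx => (hS x).1 hx)
    have hd : Curv2.deg k X (P L (m + 1)) 1 = Curv2.deg k X (P L m) 1 + Curv2.deg k X L 1 :=
      CurveRR.deg_tensor k hdim hP hL
    refine hone (by omega) _ ⟨(Sheaf.H.equiv₀ (Coh.toAb ((AmpleVan.tw L).obj (P L m))) isTerminalTop).symm
      (show Γ(P L (m + 1), ⊤) from E t (m + 1)), fun h0 => ?_⟩
    obtain ⟨v, hv⟩ := (CurveCohLib.ker_mapLin_g k (shortExact_cokernel_of_mono (AmpleVan.mulSec s (P L m))) 0).le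
      (LinearMap.mem_ker.2 h0)
    have hv' := (congrArg (Sheaf.H.equiv₀ (Coh.toAb ((AmpleVan.tw L).obj (P L m))) isTerminalTop) hv).trans (AddEquiv.apply_symm_apply _ _)
    obtain ⟨w, hw⟩ : ∃ w : Γ(P L m, ⊤), (AmpleVan.mulSec s (P L m)).app ⊤ w = E t (m + 1) :=
      ⟨_, (Sheaf.H.equiv₀_naturality isTerminalTop
        ((QCoh.toAbFunctor X).map (AmpleVan.mulSec s (P L m))) v).trans hv'⟩
    have hpt : p ∈ TrivBasic.locus t := (hst p).resolve_left fun h => (hS p).2 h hp
    let W := TrivBasic.locus t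
    have hft : IsFrame (AModX.res L (le_top : W ≤ ⊤) t) := TrivBasic.isFrame_res_of_le_locus le_rfl
    obtain ⟨σ, hσ⟩ := hft.exists_coord le_rfl (AModX.res L (le_top : W ≤ ⊤) s)
    rw [AModX.res_self] at hσ
    obtain ⟨α, hα⟩ := (isFrame_E hft m).exists_coord le_rfl (AModX.res (P L m) (le_top : W ≤ ⊤) w)
    rw [AModX.res_self] at hα
    have hres : ∀ j, AModX.res (P L j) (le_top : W ≤ ⊤) (E t j) = E (AModX.res L (le_top : W ≤ ⊤) t) j := by
      intro j
      induction j with
      | zero => rfl
      | succ j ih =>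
        show AModX.res (CohB1.tensorMod (P L j) L) _ (InvX.tmul (E t j) t) = _
        rw [InvX.res_tmul, ih]
        rfl
    have h1 : (α * σ) • E (AModX.res L (le_top : W ≤ ⊤) t) (m + 1) =
        (1 : Γ(X, W)) • E (AModX.res L (le_top : W ≤ ⊤) t) (m + 1) := by
      rw [one_smul]
      refine Eq.trans ?_ ((congrArg (AModX.res (CohB1.tensorMod (P L m) L) (le_top : W ≤ ⊤)) hw).trans (hres (m + 1)))
      show (α * σ) • InvX.tmul (E (AModX.res L (le_top : W ≤ ⊤) t) m) (AModX.res L (le_top : W ≤ ⊤) t) =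
        AModX.res (CohB1.tensorMod (P L m) L) (le_top : W ≤ ⊤) ((AmpleVan.mulSec s (P L m)).app ⊤ w)
      rw [AmpleVan.mulSec_app, InvX.res_tmul, AModX.res_res, hα, hσ, InvX.tmul_smul_left, InvX.tmul_smul_right,
        mul_smul]
    have hu : α * σ = 1 := (isFrame_E hft (m + 1)).coord_unique le_rfl (by rw [AModX.res_self]; exact h1)
    have hps : p ∈ TrivBasic.locus s ⊓ W := by
      rw [TrivBasic.locus_eq_basicOpen hft hσ, X.mem_basicOpen _ p hpt]
      exact (IsUnit.of_mul_eq_one α ((mul_comm σ α).trans hu)).map _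
    exact (hS p).2 hps.1 hp
  have hN : Module.finrank k (Coh.HH X L 0) = 1 + 1 := by
    have h3 := LinearMap.finrank_range_add_finrank_ker (mapLin k (cokernel.π (ofSect s)) 0)
    rw [hker] at h3
    have h4 := LinearMap.finrank_range_le (mapLin k (ofSect s) 0)
    rw [LinearMap.range_eq_top.2 hsurj0, finrank_top, hC1] at h3
    dsimp only at h3
    omega
  obtain ⟨i, hi, hie, -⟩ := exists_embedding_of_mulSurj k hdim hL (by omega)
    (mulSurj_of_surj k hdim hL hs hsurj0 hsurj) hst (N := 1) hN
  haveI := hi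
  haveI := isIso_of_closedImmersion_line k hdim i
  exact ⟨asIso i, hie⟩

end Groth.Agent.CurveEmbed
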