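import Groth.Agent.CurveEmbed.DegOne
import Groth.Agent.CurveEmbed.Conic
import Groth.Agent.SchTop.Closed
import Groth.Agent.AmpleVan.Tw
import Groth.Agent.AmpleVan.Tower
import Groth.Agent.Triage.SchDense
import Groth.Prelude.Def_Pi1

/-! Linearly equivalent rational points. -/

noncomputable section

set_option linter.style.haveILetI false
set_option linter.unusedSectionVars false
set_option backward.isDefEq.respectTransparency false
set_option backward.isDefEq.respectTransparency.types false

universe u

open CategoryTheory CategoryTheory.Limits AlgebraicGeometry TopologicalSpace Opposite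

attribute [local instance] Curv2.resAlgebra

namespace Groth.Agent.CurveEmbed

open Groth.Agent Groth.Agent.CurveBundle Groth.Agent.CurvePoint

/-- A connected noetherian normal scheme is integral. -/
theorem isIntegral_of_normal_connected {X : Scheme.{u}} [IsNoetherian X] [ConnectedSpace X]
    (hN : Pi1.IsNormalScheme X) : IsIntegral X := by
  haveI : ∀ x : X, _root_.IsReduced (X.presheaf.stalk x) := fun x => by
    haveI := (hN x).1
    infer_instance
  haveI : IsReduced X := isReduced_of_isReduced_stalk X
  obtain ⟨y⟩ := (inferInstance : Nonempty X)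
  obtain ⟨Z, hZ, -⟩ := exists_mem_irreducibleComponents_subset_of_isIrreducible _
    (isIrreducible_singleton (x := y))
  have hop := SchTop.isOpen_component_of_finite (X := X)
    TopologicalSpace.NoetherianSpace.finite_irreducibleComponents (fun x => (hN x).1) hZ
  have hu : Z = Set.univ :=
    IsClopen.eq_univ ⟨isClosed_of_mem_irreducibleComponents Z hZ, hop⟩ hZ.1.nonempty
  haveI : IrreducibleSpace X := by
    rw [irreducibleSpace_def, Set.top_eq_univ, ← hu]
    exact hZ.1
  exact isIntegral_of_irreducibleSpace_of_isReduced X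

variable {X : Scheme.{u}} (k : Type u) [Field k] [X.Over (Spec (CommRingCat.of k))]

/-- The point of a rational section. -/
theorem section_point [IsSeparated (X ↘ Spec (CommRingCat.of k))]
    (s : Spec (CommRingCat.of k) ⟶ X) (hs : s ≫ X ↘ Spec (CommRingCat.of k) = 𝟙 _) :
    ∃ hx : IsClosed ({s (IsLocalRing.closedPoint k)} : Set X),
      s.ker = ptIdeal _ hx ∧
        Function.Surjective (Curv2.resMap k X (s (IsLocalRing.closedPoint k))) := by
  let f := X ↘ Spec (CommRingCat.of k)
  let a := IsLocalRing.closedPoint k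
  haveI : IsClosedImmersion s := by
    haveI : IsClosedImmersion (s ≫ f) := by rw [hs]; infer_instance
    exact IsClosedImmersion.of_comp s f
  have hr : ({s a} : Set X) = Set.range s := by
    haveI : Subsingleton (Spec (CommRingCat.of k)) := inferInstanceAs (Subsingleton (PrimeSpectrum k))
    exact Set.ext fun y => ⟨fun h => ⟨a, h.symm⟩, fun ⟨b, hb⟩ => by
      rw [Set.mem_singleton_iff, ← hb, Subsingleton.elim b a]⟩
  have hx : IsClosed ({s a} : Set X) := by
    rw [hr]
    exact s.isClosedEmbedding.isClosed_range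
  refine ⟨hx, ?_, fun y => ?_⟩
  · have hc : (⟨closure (Set.range s), isClosed_closure⟩ : Closeds X) = ⟨{s a}, hx⟩ :=
      Closeds.ext ((congrArg closure hr.symm).trans hx.closure_eq)
    refine le_antisymm (Scheme.IdealSheafData.le_support_iff_le_vanishingIdeal.1 ?_) ?_
    · rw [← hc]
      intro z hz
      show z ∈ ((s.ker).support : Set X)
      rw [Scheme.Hom.support_ker]
      exact hz
    · show Scheme.IdealSheafData.vanishingIdeal _ ≤ _
      rw [← hc]
      exact Triage.SchDense.vanishingIdeal_le_ker s
  · let ρ := Scheme.descResidueField (Scheme.stalkClosedPointTo s)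
    have hs' : Spec.map ρ ≫ X.fromSpecResidueField (s a) = s :=
      Scheme.descResidueField_stalkClosedPointTo_fromSpecResidueField k X s
    have hsec : CommRingCat.ofHom (Curv2.resMap k X (s a)) ≫ ρ = 𝟙 (CommRingCat.of k) := by
      apply Spec.map_injective
      rw [Spec.map_comp, Spec.map_id, ← GeomConn5.spec_resMap, ← Category.assoc, hs', hs]
    refine ⟨ρ y, ρ.hom.injective ?_⟩
    exact congr(($hsec).hom (ρ.hom y))

/-- Rational sections with the same point are equal. -/
theorem section_ext [IsSeparated (X ↘ Spec (CommRingCat.of k))]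
    {s t : Spec (CommRingCat.of k) ⟶ X} (hs : s ≫ X ↘ Spec (CommRingCat.of k) = 𝟙 _)
    (ht : t ≫ X ↘ Spec (CommRingCat.of k) = 𝟙 _)
    (h : s (IsLocalRing.closedPoint k) = t (IsLocalRing.closedPoint k)) : s = t := by
  obtain ⟨hx, h1, -⟩ := section_point k s hs
  obtain ⟨hy, h2, -⟩ := section_point k t ht
  haveI : IsClosedImmersion s := by
    haveI : IsClosedImmersion (s ≫ X ↘ Spec (CommRingCat.of k)) := by rw [hs]; infer_instance
    exact IsClosedImmersion.of_comp s (X ↘ Spec (CommRingCat.of k))
  have hk : s.ker ≤ t.ker := by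
    rw [h1, h2]
    exact le_of_eq (congrArg Scheme.IdealSheafData.vanishingIdeal
      (Closeds.ext (congrArg (fun z => ({z} : Set X)) h)))
  have hf := IsClosedImmersion.lift_fac s t hk
  have hid : IsClosedImmersion.lift s t hk = 𝟙 _ := by
    have e := congrArg (· ≫ X ↘ Spec (CommRingCat.of k)) hf
    simpa only [Category.assoc, hs, ht, Category.comp_id] using e
  rw [← hf, hid, Category.id_comp]

variable [IsIntegral X] [IsProper (X ↘ Spec (CommRingCat.of k))]

/-- The ideals of two distinct points do not contain one another. -/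
theorem idealMod_comp_toSubscheme_ne_zero {a b : X} (ha : IsClosed ({a} : Set X))
    (hb : IsClosed ({b} : Set X)) (hne : b ≠ a) :
    ClSub.idealModι (ptIdeal a ha) ≫ ClSub.toSubscheme (ptIdeal b hb) ≠ 0 := fun h0 => by
  have hm := shortExact_pt a ha
  haveI := hm.epi_g
  let q := ClSub.toSubscheme (ptIdeal b hb)
  haveI : Epi q := epi_toSubscheme _
  obtain ⟨d, hd⟩ : ∃ d, ClSub.toSubscheme (ptIdeal a ha) ≫ d = q :=
    ⟨hm.gIsCokernel.desc (CokernelCofork.ofπ q h0),
      hm.gIsCokernel.fac (CokernelCofork.ofπ q h0) WalkingParallelPair.one⟩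
  haveI : Epi d := epi_of_epi_fac hd
  have hs := (ModuleCat.epi_iff_surjective ((DerSch.stalkFunctor X b).map d)).1 inferInstance
  have hsub : Subsingleton ↑((DerSch.stalkFunctor X b).obj (ClSub.quotMod (ptIdeal a ha))) :=
    subsingleton_stalk_of_ne a ha hne
  haveI := hsub
  exact not_subsingleton_stalk b hb hs.subsingleton

theorem comp_toSubscheme_of_factor {D D' : X.IdealSheafData} (v : ClSub.idealMod D ⟶ ClSub.idealMod D)
    (u : ClSub.idealMod D ⟶ ClSub.idealMod D')
    (h : ClSub.idealModι D = v ≫ u ≫ ClSub.idealModι D') :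
    ClSub.idealModι D ≫ ClSub.toSubscheme D' = 0 := by
  have hz : ClSub.idealModι D' ≫ ClSub.toSubscheme D' = 0 := kernel.condition _
  rw [h, Category.assoc, Category.assoc, hz, comp_zero, comp_zero]

/-- An ideal with an inverse is not the zero ideal. -/
theorem idealModι_ne_zero {D : X.IdealSheafData} {L : X.Modules}
    (α : (AmpleVan.tw L).obj (ClSub.idealMod D) ≅ Coh.structureModule X) :
    ClSub.idealModι D ≠ 0 := fun h => by
  haveI : Mono (ClSub.idealModι D) := by unfold ClSub.idealModι; infer_instance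
  have hz : IsZero (ClSub.idealMod D) := IsZero.of_mono_eq_zero _ h
  have hzO : IsZero (Coh.structureModule X) := ((AmpleVan.tw L).map_isZero hz).of_iso α.symm
  exact one_ne_zero (α := Γ(X, ⊤)) (congrArg InvX.one (hzO.eq_of_src (𝟙 (Coh.structureModule X)) 0))

include k in
/-- With one section after twisting, maps out of a module differ by an endomorphism. -/
theorem exists_endo_of_h0 {I L : X.Modules} (hL : PicF.IsInvertible L)
    (α : (AmpleVan.tw L).obj I ≅ Coh.structureModule X)
    (h : Module.finrank k (Coh.HH X L 0) ≤ 1)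
    (f g : I ⟶ Coh.structureModule X) (hg : g ≠ 0) : ∃ ψ : I ⟶ I, f = ψ ≫ g := by
  haveI := CurveCohLib.isNoetherian_of_proper (k := k) (X := X)
  haveI : (AmpleVan.tw L).IsEquivalence := AmpleVan.isEquivalence_tw hL
  obtain ⟨c⟩ := H23.PicMul.comm (Coh.structureModule X) L
  let β : (AmpleVan.tw L).obj (Coh.structureModule X) ≅ L := c ≪≫ (KFlatLib.tensorStructureIso X).app L
  let sf : Coh.structureModule X ⟶ L := α.inv ≫ (AmpleVan.tw L).map f ≫ β.hom
  let sg : Coh.structureModule X ⟶ L := α.inv ≫ (AmpleVan.tw L).map g ≫ β.hom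
  have hsg : InvX.one sg ≠ 0 := fun h0 => hg <| by
    have h1 : sg = 0 := AmpleVan.one_injective (h0.trans (by rfl))
    refine (AmpleVan.tw L).map_injective ?_
    have h2 : α.hom ≫ sg ≫ β.inv = (AmpleVan.tw L).map g := by
      simp only [sg, Category.assoc, Iso.hom_inv_id_assoc, Iso.hom_inv_id, Category.comp_id]
    rw [← h2, h1, zero_comp, comp_zero, Functor.map_zero]
  haveI := CurveCohLib.finite_HH (k := k) (CurveDeg.isCoh_of_isInvertible hL) 0
  let e := Sheaf.H.equiv₀ (Coh.toAb L) isTerminalTop
  have hv : e.symm (InvX.one sg) ≠ 0 := fun h0 => hsg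
    ((e.apply_symm_apply (InvX.one sg)).symm.trans ((congrArg e h0).trans (map_zero e)))
  have hone : Module.finrank k (Coh.HH X L 0) = 1 :=
    le_antisymm h (Module.finrank_pos_iff_exists_ne_zero.2 ⟨_, hv⟩)
  obtain ⟨a, ha⟩ := (finrank_eq_one_iff_of_nonzero' _ hv).1 hone (e.symm (InvX.one sf))
  let r : Γ(X, ⊤) := Coh.resTop X (op ⊤) (Coh.toGlobal (X ↘ Spec (CommRingCat.of k)) a)
  have hr : InvX.one sf = r • InvX.one sg := by
    have h1 := (CurveCohLib.h0Equiv_smul L a (e.symm (InvX.one sg))).symm.trans
      ((congrArg e ha).trans (e.apply_symm_apply (InvX.one sf)))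
    rw [e.apply_symm_apply] at h1
    exact h1.symm
  let θ : Coh.structureModule X ⟶ Coh.structureModule X :=
    InvX.ofSect (show Γ(Coh.structureModule X, ⊤) from r)
  have hθ : sf = θ ≫ sg := by
    refine AmpleVan.one_injective ?_
    rw [AmpleVan.one_comp θ sg, InvX.one_ofSect, hr]
    refine ((InvX.app_eq_smul sg r).trans ?_).symm
    exact congrArg (r • ·) (AModX.res_self _)
  obtain ⟨ψ, hψ⟩ := (AmpleVan.tw L).map_surjective
    ((α.hom ≫ θ ≫ α.inv : (AmpleVan.tw L).obj I ⟶ (AmpleVan.tw L).obj I))
  refine ⟨ψ, (AmpleVan.tw L).map_injective ?_⟩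
  rw [Functor.map_comp, hψ]
  refine (cancel_epi α.inv).1 ((cancel_mono β.hom).1 ?_)
  simpa only [sf, sg, Category.assoc, Iso.inv_hom_id_assoc] using hθ

end Groth.Agent.CurveEmbed
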