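import Groth.Agent.CurveCohLib.Nonspecial
import Groth.Agent.InvX.Tensor

/-! Sections of the target of a map of invertible modules with finite cokernel support. -/

noncomputable section

set_option linter.style.haveILetI false
set_option linter.unusedSectionVars false
set_option backward.isDefEq.respectTransparency false
set_option backward.isDefEq.respectTransparency.types false

universe u

open CategoryTheory CategoryTheory.Limits AlgebraicGeometry TopologicalSpace Opposite
open Groth.Agent.PnCoh.Finite (mapLin)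

namespace Groth.Agent.CurveEmbed

open Groth.Agent.CurveBundle Groth.Agent.CurveSlope

variable {X : Scheme.{u}} {M N : X.Modules}

/-- A section lying locally in the image of a monomorphism comes from a global section. -/
theorem exists_preimage (ψ : M ⟶ N) [Mono ψ] (u : Γ(N, ⊤))
    (h : ∀ x : X, ∃ W : X.Opens, x ∈ W ∧ ∃ w : Γ(M, W), ψ.app W w = AModX.res N (le_top : W ≤ ⊤) u) :
    ∃ v : Γ(M, ⊤), ψ.app ⊤ v = u := by
  choose W hxW w hw using h
  obtain ⟨v, hv, -⟩ := AModX.existsUnique_glue (M := M) (V := ⊤) W (fun _ => le_top)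
    (fun p _ => ⟨p, hxW p⟩) w fun i j => by
      refine QCoh.app_injective ψ _ ?_
      rw [AModX.app_res, AModX.app_res, hw, hw, AModX.res_res, AModX.res_res]
  refine ⟨v, AModX.eq_of_locally _ _ fun p _ => ⟨W p, le_top, hxW p, ?_⟩⟩
  rw [← AModX.app_res, hv, hw]

variable (k : Type u) [Field k] [X.Over (Spec (CommRingCat.of k))] [IsIntegral X]
  [IsProper (X ↘ Spec (CommRingCat.of k))]

/-- The map is locally surjective away from `S`. -/
def SurjOff (ψ : M ⟶ N) (S : Finset X) : Prop :=
  ∀ x ∉ S, ∀ (U : X.Opens), x ∈ U → ∀ n : Γ(N, U),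
    ∃ (W : X.Opens) (h : W ≤ U), x ∈ W ∧ ∃ w : Γ(M, W), ψ.app W w = AModX.res N h n

theorem support_cokernel_subset {ψ : M ⟶ N} {S : Finset X} (hout : SurjOff ψ S) :
    CohB1.support (cokernel ψ) ⊆ S := by
  intro x hx
  by_contra hxS
  refine hx (subsingleton_of_forall_eq 0 fun z => ?_)
  let F := DerSch.stalkFunctor X x
  obtain ⟨y, rfl⟩ := (ModuleCat.epi_iff_surjective (F.map (cokernel.π ψ))).1 inferInstance z
  obtain ⟨U, hxU, n, rfl⟩ := TopCat.Presheaf.exists_germ_eq N.presheaf y
  obtain ⟨W, hW, hxW, w, hw⟩ := hout x hxS U hxU n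
  have h1 : F.map ψ (M.presheaf.germ W x hxW w) = N.presheaf.germ U x hxU n := by
    refine (TopCat.Presheaf.stalkFunctor_map_germ_apply W x hxW
      ((Scheme.Modules.toPresheaf X).map ψ) w).trans ?_
    exact (congrArg (N.presheaf.germ W x hxW) hw).trans (InvX.germ_res' hW hxW n)
  rw [← h1, ← ConcreteCategory.comp_apply, ← F.map_comp, cokernel.condition, F.map_zero]
  rfl

include k in
/-- The map is surjective on first cohomology. -/
theorem subsingleton_h1 (hM : PicF.IsInvertible M) (hN : PicF.IsInvertible N) (ψ : M ⟶ N) [Mono ψ]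
    (S : Finset X) (hS : ∀ x ∈ S, IsClosed ({x} : Set X)) (hout : SurjOff ψ S)
    (h1 : Subsingleton (Coh.HH X M 1)) : Subsingleton (Coh.HH X N 1) := by
  haveI := CurveCohLib.isNoetherian_of_proper (k := k) (X := X)
  have hsub := support_cokernel_subset hout
  haveI := CurveVanish.subsingleton_HH_of_finite (M := cokernel ψ) S.finite_toSet hS
    (fun x hx => not_not.1 fun h => hx (hsub h)) 0
  refine subsingleton_of_forall_eq 0 fun y => ?_
  obtain ⟨m, rfl⟩ := (CurveCohLib.ker_mapLin_g k (shortExact_cokernel_of_mono ψ) 1).le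
    (LinearMap.mem_ker.2 (Subsingleton.elim (mapLin k (cokernel.π ψ) 1 y) 0))
  rw [Subsingleton.elim m 0, map_zero]

include k in
/-- Without first cohomology of the source, all sections of the cokernel lift. -/
theorem surjective_of_h1 (ψ : M ⟶ N) [Mono ψ] (h1 : Subsingleton (Coh.HH X M 1)) :
    Function.Surjective (mapLin k (cokernel.π ψ) 0) := fun y => by
  haveI := h1
  exact (CurveCohLib.ker_deltaLin k (shortExact_cokernel_of_mono ψ) 0).le
    (LinearMap.mem_ker.2 (Subsingleton.elim _ 0) : y ∈ _)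

include k in
/-- Prescribing sections modulo the image at finitely many closed points. -/
theorem exists_lift (hM : PicF.IsInvertible M) (hN : PicF.IsInvertible N) (ψ : M ⟶ N) [Mono ψ]
    (S : Finset X) (hS : ∀ x ∈ S, IsClosed ({x} : Set X)) (hout : SurjOff ψ S)
    (hsurj : Function.Surjective (mapLin k (cokernel.π ψ) 0)) (U : S → X.Opens) (hU : ∀ x : S, x.1 ∈ U x) (c : ∀ x : S, Γ(N, U x)) :
    ∃ a : Γ(N, ⊤), ∀ x : S, ∃ (W : X.Opens) (h : W ≤ U x), x.1 ∈ W ∧
      ∃ w : Γ(M, W), ψ.app W w = AModX.res N (le_top : W ≤ ⊤) a - AModX.res N h (c x) := by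
  classical
  haveI := CurveCohLib.isNoetherian_of_proper (k := k) (X := X)
  have hSE := shortExact_cokernel_of_mono ψ
  have hsub := support_cokernel_subset hout
  have hC : Coh.IsCoh (cokernel ψ) :=
    QCoh.isCoh_cokernel (CurveDeg.isCoh_of_isInvertible hM).1 (CurveDeg.isCoh_of_isInvertible hN) ψ
  obtain ⟨e, he⟩ := CurveCohLib.exists_h0Equiv (k := k) hC (fun x hx => hS x (hsub hx)) S hsub
  let q := fun x : X => (DerSch.stalkFunctor X x).map (cokernel.π ψ)
  let y : Coh.HH X (cokernel ψ) 0 := e.symm fun x => q x.1 (N.presheaf.germ (U x) x.1 (hU x) (c x))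
  obtain ⟨t, ht⟩ := hsurj y
  let a : Γ(N, ⊤) := Sheaf.H.equiv₀ (Coh.toAb N) isTerminalTop t
  refine ⟨a, fun x => ?_⟩
  let F := DerSch.stalkFunctor X x.1
  let d : Γ(N, U x) := AModX.res N (le_top : U x ≤ ⊤) a - c x
  have h0 : q x.1 (N.presheaf.germ (U x) x.1 (hU x) d) = 0 := by
    have hg : N.presheaf.germ (U x) x.1 (hU x) d =
        (show F.obj N from N.presheaf.germ ⊤ x.1 trivial a) -
          (show F.obj N from N.presheaf.germ (U x) x.1 (hU x) (c x)) :=
      ((map_sub _ _ _).trans (congrArg₂ (· - ·) (InvX.germ_res' le_top (hU x) a) rfl))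
    rw [hg]
    refine (map_sub (q x.1).hom _ _).trans (sub_eq_zero.2 ?_)
    have h2 := congrArg (fun z => e z x) ht
    simp only [y, LinearEquiv.apply_symm_apply] at h2
    rw [he] at h2
    refine Eq.trans ?_ h2
    refine (TopCat.Presheaf.stalkFunctor_map_germ_apply ⊤ x.1 trivial
      ((Scheme.Modules.toPresheaf X).map (cokernel.π ψ)) _).trans ?_
    refine congrArg ((cokernel ψ).presheaf.germ ⊤ x.1 trivial) ?_
    exact (Sheaf.H.equiv₀_naturality isTerminalTop ((QCoh.toAbFunctor X).map (cokernel.π ψ)) t)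
  obtain ⟨m, hm⟩ := (ShortComplex.moduleCat_exact_iff _).1 (hSE.map_of_exact F).exact _ h0
  obtain ⟨V, hxV, w, rfl⟩ := TopCat.Presheaf.exists_germ_eq M.presheaf m
  have hm' : N.presheaf.germ V x.1 hxV (ψ.app V w) = N.presheaf.germ (U x) x.1 (hU x) d :=
    (TopCat.Presheaf.stalkFunctor_map_germ_apply V x.1 hxV
      ((Scheme.Modules.toPresheaf X).map ψ) w).symm.trans hm
  obtain ⟨W, hxW, i, j, hW⟩ := N.presheaf.germ_eq x.1 hxV (hU x) _ _ hm'
  refine ⟨W, j.le, hxW, AModX.res M i.le w, ?_⟩
  rw [AModX.app_res]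
  refine hW.trans ?_
  show AModX.res N j.le (AModX.res N (le_top : U x ≤ ⊤) a - c x) = _
  rw [map_sub, AModX.res_res]

end Groth.Agent.CurveEmbed
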