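import Groth.Agent.CurveEmbed.Pow

/-! Invertible modules of positive degree on curves with `H¹(O) = 0` are very ample. -/

noncomputable section

set_option linter.style.haveILetI false
set_option linter.unusedSectionVars false
set_option backward.isDefEq.respectTransparency false
set_option backward.isDefEq.respectTransparency.types false

universe u

open CategoryTheory CategoryTheory.Limits AlgebraicGeometry TopologicalSpace Opposite

namespace Groth.Agent.CurveEmbed

open Groth.Agent Groth.Agent.InvX Groth.Agent.H23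

variable {X : Scheme.{u}} (k : Type u) [Field k] [X.Over (Spec (CommRingCat.of k))] [IsIntegral X]
  [IsProper (X ↘ Spec (CommRingCat.of k))]

include k in
theorem h0_structure_pos : 0 < Module.finrank k (Coh.HH X (Coh.structureModule X) 0) := by
  haveI := CurveCohLib.isNoetherian_of_proper (k := k) (X := X)
  haveI := CurveCohLib.finite_HH (k := k) (QCoh.isCoh_structureModule' (X := X)) 0
  let e := Sheaf.H.equiv₀ (Coh.toAb (Coh.structureModule X)) isTerminalTop
  haveI : Nontrivial (Coh.HH X (Coh.structureModule X) 0) :=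
    ⟨⟨e.symm (1 : Γ(X, ⊤)), 0, fun h => one_ne_zero (α := Γ(X, ⊤))
      ((e.apply_symm_apply _).symm.trans ((congrArg e h).trans (map_zero e)))⟩⟩
  exact Module.finrank_pos

include k in
theorem exists_ne_zero (hdim : topologicalKrullDim X = 1)
    (h1 : Subsingleton (Coh.HH X (Coh.structureModule X) 1)) {L : X.Modules} (hL : PicF.IsInvertible L)
    (hdeg : 0 ≤ Curv2.deg k X L 1) : ∃ s : Γ(L, ⊤), s ≠ 0 := by
  haveI := CurveCohLib.isNoetherian_of_proper (k := k) (X := X)
  have hLc := CurveDeg.isCoh_of_isInvertible hL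
  haveI := CurveCohLib.finite_HH (k := k) hLc 0
  haveI := h1
  have e1 := CurveRR.euler_eq_h0_sub_h1 k hdim.le (QCoh.isQCoh_structureModule (X := X))
  have e2 := CurveRR.euler_eq_h0_sub_h1 k hdim.le hLc.1
  rw [Module.finrank_zero_of_subsingleton (R := k) (M := Coh.HH X (Coh.structureModule X) 1)] at e1
  have h0 := h0_structure_pos k (X := X)
  have hpos : 0 < Module.finrank k (Coh.HH X L 0) := by
    unfold Curv2.deg at hdeg
    omega
  obtain ⟨t, ht⟩ := Module.finrank_pos_iff_exists_ne_zero.1 hpos
  exact ⟨Sheaf.H.equiv₀ (Coh.toAb L) isTerminalTop t,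
    fun h => ht ((Sheaf.H.equiv₀ (Coh.toAb L) isTerminalTop).injective (h.trans (map_zero _).symm))⟩

include k in
/-- Riemann–Roch when `H¹(O) = 0`. -/
theorem h0_eq (hdim : topologicalKrullDim X = 1)
    (h1 : Subsingleton (Coh.HH X (Coh.structureModule X) 1)) {L : X.Modules} (hL : PicF.IsInvertible L)
    (hdeg : 0 ≤ Curv2.deg k X L 1) :
    (Module.finrank k (Coh.HH X L 0) : ℤ) =
      Curv2.deg k X L 1 + Module.finrank k (Coh.HH X (Coh.structureModule X) 0) := by
  haveI := CurveCohLib.isNoetherian_of_proper (k := k) (X := X)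
  obtain ⟨s, hs⟩ := exists_ne_zero k hdim h1 hL hdeg
  have hLc := CurveDeg.isCoh_of_isInvertible hL
  haveI : Subsingleton (Coh.HH X L 1) := subsingleton_h1_P k hdim hL hs h1 0
  haveI := h1
  have e1 := CurveRR.euler_eq_h0_sub_h1 k hdim.le (QCoh.isQCoh_structureModule (X := X))
  have e2 := CurveRR.euler_eq_h0_sub_h1 k hdim.le hLc.1
  rw [Module.finrank_zero_of_subsingleton (R := k) (M := Coh.HH X (Coh.structureModule X) 1)] at e1
  rw [Module.finrank_zero_of_subsingleton (R := k) (M := Coh.HH X L 1)] at e2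
  unfold Curv2.deg
  omega

include k in
/-- A module of positive degree is nontrivial on every curve in `X`. -/
theorem finite_of_triv (hdim : topologicalKrullDim X = 1) {L : X.Modules}
    (hdeg : 0 < Curv2.deg k X L 1) {C : Scheme.{u}} (j : C ⟶ X) (hj : IsClosedImmersion j)
    (_ : IsIntegral C) (hT : TrivBasic.Triv ((Scheme.Modules.pullback j).obj L)) : Finite C := by
  haveI := hj
  haveI := CurveCohLib.isNoetherian_of_proper (k := k) (X := X)
  by_cases hη : genericPoint X ∈ Set.range j
  · haveI : Surjective j := ⟨fun y => (show y ∈ Set.range j from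
      ((genericPoint_spec X).specializes (Set.mem_univ y)).mem_closed j.isClosedEmbedding.isClosed_range hη)⟩
    haveI : IsIso j := isIso_of_isClosedImmersion_of_surjective j
    obtain ⟨φ⟩ := TrivBasic.triv_of_isIso j hT
    rw [CurveRR.deg_congr k φ 1] at hdeg
    simp [Curv2.deg] at hdeg
  · have hcl : ∀ x ∈ Set.range j, IsClosed ({x} : Set X) := fun x hx => by
      by_contra hxc
      exact hη (CurveCohLib.eq_genericPoint_of_not_isClosed hdim hxc ▸ hx)
    haveI := (CurveCohLib.finite_of_closedPoints j.isClosedEmbedding.isClosed_range hcl).to_subtype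
    exact Finite.of_injective (fun c => (⟨j c, c, rfl⟩ : Set.range j))
      fun a b h => j.isClosedEmbedding.injective (congrArg Subtype.val h)

include k in
/-- The complete linear system embeds, given two generating sections and multiplicative surjectivity. -/
theorem exists_embedding_of_mulSurj (hdim : topologicalKrullDim X = 1) {L : X.Modules} (hL : PicF.IsInvertible L)
    (hdeg : 0 < Curv2.deg k X L 1) (hm : MulSurj L) {s t : Γ(L, ⊤)}
    (hst : ∀ x : X, x ∈ TrivBasic.locus s ∨ x ∈ TrivBasic.locus t)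
    {N : ℕ} (hN : Module.finrank k (Coh.HH X L 0) = N + 1) :
    ∃ i : X ⟶ CohB1.ProjSpace N k, IsClosedImmersion i ∧
      i ≫ CohB1.ProjSpace.toSpec N k = X ↘ Spec (CommRingCat.of k) ∧
      Nonempty ((Scheme.Modules.pullback i).obj (Twist.twistProjSpace N k 1) ≅ L) := by
  classical
  haveI := CurveCohLib.isNoetherian_of_proper (k := k) (X := X)
  haveI := CurveCohLib.finite_HH (k := k) (CurveDeg.isCoh_of_isInvertible hL) 0
  let b := Module.finBasisOfFinrankEq k (Coh.HH X L 0) hN
  let e := Sheaf.H.equiv₀ (Coh.toAb L) isTerminalTop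
  let f := X ↘ Spec (CommRingCat.of k)
  let σ : Fin (N + 1) → Γ(L, ⊤) := fun j => (e (b j) : Γ(L, ⊤))
  have hspan : ∀ z : Γ(L, ⊤), ∃ c : Fin (N + 1) → k,
      z = ∑ j, f.appTop ((Scheme.ΓSpecIso (CommRingCat.of k)).inv (c j)) • σ j := fun z => by
    refine ⟨fun j => b.repr (e.symm z) j, ?_⟩
    conv_lhs => rw [← e.apply_symm_apply z, ← b.sum_repr (e.symm z)]
    refine (map_sum e _ _).trans (Finset.sum_congr rfl fun j _ => ?_)
    refine (CurveCohLib.h0Equiv_smul L _ _).trans ?_
    refine congrArg (· • σ j) ?_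
    exact ConcreteCategory.congr_hom (X.presheaf.map_id (op ⊤)) _
  have hcov : ∀ x : X, ∃ j, x ∈ TrivBasic.locus (σ j) := fun x => by
    by_contra! hne
    have hmem : ∀ z : Γ(L, ⊤), x ∉ TrivBasic.locus z := fun z hz => by
      obtain ⟨V, hxV, fr, hfr⟩ := exists_frame hL x
      choose a ha using fun w : Γ(L, ⊤) => hfr.exists_coord le_rfl (AModX.res L (le_top : V ≤ ⊤) w)
      simp only [AModX.res_self] at ha
      have hnot : ∀ w, x ∈ TrivBasic.locus w ↔ IsUnit (X.presheaf.germ V x hxV (a w)) := fun w => by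
        rw [← X.mem_basicOpen _ x hxV, ← TrivBasic.locus_eq_basicOpen hfr (ha w)]
        exact ⟨fun h => ⟨h, hxV⟩, fun h => h.1⟩
      obtain ⟨c, rfl⟩ := hspan z
      refine (IsLocalRing.mem_maximalIdeal _).1 ?_ ((hnot _).1 hz)
      have hsum : a (∑ j, f.appTop ((Scheme.ΓSpecIso (CommRingCat.of k)).inv (c j)) • σ j) =
          ∑ j, AModX.resR (le_top : V ≤ ⊤) (f.appTop ((Scheme.ΓSpecIso (CommRingCat.of k)).inv (c j))) * a (σ j) := by
        refine hfr.coord_unique le_rfl ?_
        rw [AModX.res_self, ← ha, map_sum, Finset.sum_smul]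
        exact Finset.sum_congr rfl fun j _ => by rw [AModX.res_smul, ha (σ j), mul_smul]
      rw [hsum, map_sum]
      exact Ideal.sum_mem _ fun j _ => by
        rw [map_mul]
        exact Ideal.mul_mem_left _ _ ((IsLocalRing.mem_maximalIdeal _).2 fun h => hne j ((hnot _).2 h))
    exact (hst x).elim (hmem s) (hmem t)
  obtain ⟨r, hr, τ, hτ⟩ := S3572.result N f L hL σ (AVAmple.generatedBy_of_locus σ hcov)
  refine ⟨r, ?_, hr, ⟨τ⟩⟩
  exact isClosedImmersion_of_mulSurj f hL (finite_of_triv k hdim hdeg) hm σ hspan r hr τ hτ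

include k in
/-- Positive degree invertible modules are very ample, by the complete linear system. -/
theorem exists_embedding (hdim : topologicalKrullDim X = 1)
    (h1 : Subsingleton (Coh.HH X (Coh.structureModule X) 1)) {L : X.Modules} (hL : PicF.IsInvertible L)
    (hdeg : 0 < Curv2.deg k X L 1) {N : ℕ} (hN : Module.finrank k (Coh.HH X L 0) = N + 1) :
    ∃ i : X ⟶ CohB1.ProjSpace N k, IsClosedImmersion i ∧
      i ≫ CohB1.ProjSpace.toSpec N k = X ↘ Spec (CommRingCat.of k) ∧
      Nonempty ((Scheme.Modules.pullback i).obj (Twist.twistProjSpace N k 1) ≅ L) := by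
  haveI := CurveCohLib.isNoetherian_of_proper (k := k) (X := X)
  obtain ⟨s, hs⟩ := exists_ne_zero k hdim h1 hL hdeg.le
  obtain ⟨t, hst⟩ := exists_complement k hdim hL hs h1
  exact exists_embedding_of_mulSurj k hdim hL hdeg (mulSurj k hdim hL hs h1) hst hN

end Groth.Agent.CurveEmbed
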