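import Groth.Agent.CurveEmbed.DegOne
import Groth.Agent.S0843
import Groth.Agent.S0844
import Groth.Agent.CurveBC.Coh

/-! The degree one module on a curve isomorphic to the projective line. -/

noncomputable section

set_option linter.style.haveILetI false
set_option linter.unusedSectionVars false
set_option backward.isDefEq.respectTransparency false
set_option backward.isDefEq.respectTransparency.types false

universe u

open CategoryTheory CategoryTheory.Limits AlgebraicGeometry TopologicalSpace Opposite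

namespace Groth.Agent.CurveEmbed

open Groth.Agent

theorem finrank_binary (k : Type u) [Field k] (n : ℕ) :
    Module.finrank k ↥(MvPolynomial.homogeneousSubmodule (Fin (1 + 1)) k n) = n + 1 := by
  let T : Set (Fin (1 + 1) →₀ ℕ) := {d | d.degree = n}
  have hdeg : ∀ d : Fin (1 + 1) →₀ ℕ, d.degree = d 0 + d 1 := fun d => by
    rw [Finsupp.degree_eq_sum, Fin.sum_univ_two]
  let e : ↥T ≃ Fin (n + 1) :=
    { toFun := fun d => ⟨d.1 0, by have h : d.1.degree = n := d.2; have := hdeg d.1; omega⟩
      invFun := fun i => ⟨Finsupp.equivFunOnFinite.symm ![i.1, n - i.1], by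
        show Finsupp.degree _ = n
        rw [hdeg]
        simp only [Finsupp.coe_equivFunOnFinite_symm, Matrix.cons_val_zero, Matrix.cons_val_one]
        omega⟩
      left_inv := fun d => by
        have h : d.1.degree = n := d.2
        have h' := hdeg d.1
        refine Subtype.ext (Finsupp.ext fun i => ?_)
        fin_cases i
        · simp
        · simp; omega
      right_inv := fun i => by simp }
  haveI : Fintype ↥T := Fintype.ofEquiv _ e.symm
  rw [show MvPolynomial.homogeneousSubmodule (Fin (1 + 1)) k n = MvPolynomial.restrictSupport k T from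
    MvPolynomial.homogeneousSubmodule_eq_finsupp_supported _ _ n,
    Module.finrank_eq_card_basis (MvPolynomial.basisRestrictSupport (R := k) T),
    Fintype.card_congr e, Fintype.card_fin]

theorem exists_deg_one_of_iso (k : Type u) [Field k] {X : Scheme.{u}} [X.Over (Spec (CommRingCat.of k))]
    [IsIntegral X] [IsProper (X ↘ Spec (CommRingCat.of k))] (hdim : topologicalKrullDim X = 1)
    (e : X ≅ CohB1.ProjSpace 1 k) (he : e.hom ≫ CohB1.ProjSpace.toSpec 1 k = X ↘ Spec (CommRingCat.of k)) :
    ∃ L : X.Modules, PicF.IsInvertible L ∧ Curv2.deg k X L 1 = 1 ∧ 2 ≤ Module.finrank k (Coh.HH X L 0) := by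
  haveI := CurveCohLib.isNoetherian_of_proper (k := k) (X := X)
  haveI : IsProper (CohB1.ProjSpace.toSpec 1 k) := PnCoh.Chow.isProper_toSpec 1 k
  haveI : CompactSpace ↥(CohB1.ProjSpace 1 k) :=
    QuasiCompact.compactSpace_of_compactSpace (CohB1.ProjSpace.toSpec 1 k)
  haveI : (CohB1.ProjSpace 1 k).IsSeparated := ⟨by
    rw [← Limits.terminal.comp_from (CohB1.ProjSpace.toSpec 1 k)]; infer_instance⟩
  have hpb : IsPullback e.hom (X ↘ Spec (CommRingCat.of k))
      ((CohB1.ProjSpace 1 k) ↘ Spec (CommRingCat.of k))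
      (Spec.map (CommRingCat.ofHom (algebraMap k k))) := by
    haveI : IsIso (Spec.map (CommRingCat.ofHom (algebraMap k k))) := by
      rw [show CommRingCat.ofHom (algebraMap k k) = 𝟙 (CommRingCat.of k) from rfl]
      infer_instance
    refine IsPullback.of_horiz_isIso ⟨?_⟩
    rw [show CommRingCat.ofHom (algebraMap k k) = 𝟙 (CommRingCat.of k) from rfl, Spec.map_id, Category.comp_id]
    exact he
  have hN : ∀ d : ℕ, PicF.IsInvertible (Twist.twistProjSpace 1 k (d : ℤ)) := fun d =>
    PnCoh.Finite.isInvertible_twist (fun j : ULift.{u} (Fin (1 + 1)) => MvPolynomial.X j.down)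
      (fun j => ProjPt.X_mem j.down) (by
        refine top_le_iff.1 ((AmpleEmbed.iSup_basicOpen_X 1 k).ge.trans (iSup_le fun j => ?_))
        exact le_iSup_of_le (ULift.up j) le_rfl) (d : ℤ)
  let g := Scheme.Modules.pullback e.hom
  have hh : ∀ (d i : ℕ), Module.finrank k (Coh.HH X (g.obj (Twist.twistProjSpace 1 k (d : ℤ))) i) =
      Module.finrank k (Coh.HH (CohB1.ProjSpace 1 k) (Twist.twistProjSpace 1 k (d : ℤ)) i) := fun d i =>
    CurveBC.finrank_hh k k e.hom hpb _ (ProjUPX.isQCoh_of_isInvertible (hN d)) i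
  have h0 : ∀ d : ℕ, Module.finrank k (Coh.HH X (g.obj (Twist.twistProjSpace 1 k (d : ℤ))) 0) = d + 1 :=
    fun d => by
    obtain ⟨φ⟩ := S0843.result k 1 d
    rw [hh, φ.finrank_eq, finrank_binary]
  have hO : Module.finrank k (Coh.HH X (Coh.structureModule X) 0) = 1 := by
    have h1 := h0_structure_dvd k (g.obj (Twist.twistProjSpace 1 k ((1 : ℕ) : ℤ)))
    have h2 := h0_structure_dvd k (g.obj (Twist.twistProjSpace 1 k ((2 : ℕ) : ℤ)))
    rw [h0] at h1 h2
    exact Nat.dvd_one.1 ((Nat.dvd_add_iff_right h1).2 h2)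
  have hg : Module.finrank k (Coh.HH X (Coh.structureModule X) 1) = 0 := by
    rw [CurveBC.finrank_hh_unit k k e.hom hpb 1]
    haveI h : Subsingleton (Coh.HH (CohB1.ProjSpace 1 k) (Coh.structureModule (CohB1.ProjSpace 1 k)) (0 + 1)) :=
      PnCoh.subsingleton_HH_structureModule (ι := Fin (1 + 1)) (R := k) (PnCoh.isQCoh_structureModule _) 0
    exact Module.finrank_zero_of_subsingleton (R := k)
      (M := Coh.HH (CohB1.ProjSpace 1 k) (Coh.structureModule _) (0 + 1))
  have hg1 : Module.finrank k (Coh.HH X (g.obj (Twist.twistProjSpace 1 k ((1 : ℕ) : ℤ))) 1) = 0 := by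
    rw [hh]
    haveI := S0844.result k 1 ((1 : ℕ) : ℤ) 1 (fun h => absurd h.1 one_ne_zero) (fun h => absurd h.2 (by norm_num))
    exact Module.finrank_zero_of_subsingleton
  have hL := PicClLib.isInvertible_pullback e.hom (hN 1)
  refine ⟨g.obj (Twist.twistProjSpace 1 k ((1 : ℕ) : ℤ)), hL, ?_, by rw [h0]⟩
  have hLc := CurveDeg.isCoh_of_isInvertible hL
  unfold Curv2.deg
  rw [CurveRR.euler_eq_h0_sub_h1 k hdim.le hLc.1,
    CurveRR.euler_eq_h0_sub_h1 k hdim.le QCoh.isQCoh_structureModule, h0, hO, hg, hg1]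
  norm_num

end Groth.Agent.CurveEmbed
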