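import Groth.Agent.CurveEmbed.Lift
import Groth.Agent.CurveEmbed.Immersion

/-! Multiplication of sections of invertible modules on curves with `H¹(O) = 0`. -/

noncomputable section

set_option linter.style.haveILetI false
set_option linter.unusedSectionVars false
set_option backward.isDefEq.respectTransparency false
set_option backward.isDefEq.respectTransparency.types false

universe u

open CategoryTheory CategoryTheory.Limits AlgebraicGeometry TopologicalSpace Opposite
open Groth.Agent.PnCoh.Finite (mapLin)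

namespace Groth.Agent.CurveEmbed

open Groth.Agent Groth.Agent.InvX Groth.Agent.H23

variable {X : Scheme.{u}} {L M : X.Modules}

theorem ofSect_app (s : Γ(L, ⊤)) (W : X.Opens) (g : Γ(X, W)) :
    (ofSect s).app W (show Γ(Coh.structureModule X, W) from g) = g • AModX.res L (le_top : W ≤ ⊤) s :=
  rfl

theorem ofSect_ne_zero {s : Γ(L, ⊤)} (hs : s ≠ 0) : ofSect s ≠ 0 := fun h => hs (by
  rw [← one_ofSect s, h]
  rfl)

theorem mulSec_ne_zero [IsIntegral X] (hL : PicF.IsInvertible L) (hM : PicF.IsInvertible M) {s : Γ(L, ⊤)}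
    (hs : s ≠ 0) : AmpleVan.mulSec s M ≠ 0 := by
  intro h
  obtain ⟨x, hx⟩ := (Opens.ne_bot_iff_nonempty _).1 (TrivBasic.locus_ne_bot hL hs)
  obtain ⟨V, hxV, e, he⟩ := exists_frame hM x
  let W : X.Opens := V ⊓ TrivBasic.locus s
  have hfr := isFrame_tmul (he.res (inf_le_left : W ≤ V))
    (TrivBasic.isFrame_res_of_le_locus (inf_le_right : W ≤ TrivBasic.locus s))
  have h0 : InvX.tmul (AModX.res M (inf_le_left : W ≤ V) e) (AModX.res L (le_top : W ≤ ⊤) s) = 0 := by
    rw [← AmpleVan.mulSec_app, h]; rfl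
  haveI : Nonempty W := ⟨⟨x, hxV, hx⟩⟩
  exact one_ne_zero (hfr.coord_unique le_rfl (r := (1 : Γ(X, W))) (r' := 0)
    (by rw [AModX.res_self, one_smul, zero_smul, h0]))

theorem surjOff_mulSec (hM : PicF.IsInvertible M) (s : Γ(L, ⊤)) (S : Finset X)
    (hS : ∀ x ∉ S, x ∈ TrivBasic.locus s) : SurjOff (AmpleVan.mulSec s M) S := by
  intro x hx U hxU n
  obtain ⟨V, hxV, e, he⟩ := exists_frame hM x
  let W : X.Opens := U ⊓ (V ⊓ TrivBasic.locus s)
  have hfr := isFrame_tmul (he.res ((inf_le_right.trans inf_le_left : W ≤ V)))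
    (TrivBasic.isFrame_res_of_le_locus ((inf_le_right.trans inf_le_right : W ≤ TrivBasic.locus s)))
  obtain ⟨g, hg⟩ := hfr.exists_coord le_rfl (AModX.res (CohB1.tensorMod M L) (inf_le_left : W ≤ U) n)
  rw [AModX.res_self] at hg
  refine ⟨W, inf_le_left, ⟨hxU, hxV, hS x hx⟩, g • AModX.res M (inf_le_right.trans inf_le_left : W ≤ V) e, ?_⟩
  rw [AmpleVan.mulSec_app, InvX.tmul_smul_left]
  exact hg.symm

theorem surjOff_ofSect (s : Γ(L, ⊤)) (S : Finset X) (hS : ∀ x ∉ S, x ∈ TrivBasic.locus s) :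
    SurjOff (ofSect s) S := by
  intro x hx U hxU n
  let W : X.Opens := U ⊓ TrivBasic.locus s
  obtain ⟨g, hg⟩ := (TrivBasic.isFrame_res_of_le_locus (inf_le_right : W ≤ TrivBasic.locus s)).exists_coord le_rfl
    (AModX.res L (inf_le_left : W ≤ U) n)
  rw [AModX.res_self] at hg
  exact ⟨W, inf_le_left, ⟨hxU, hS x hx⟩, g, (ofSect_app s W g).trans hg.symm⟩

variable (k : Type u) [Field k] [X.Over (Spec (CommRingCat.of k))] [IsIntegral X]
  [IsProper (X ↘ Spec (CommRingCat.of k))]

include k in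
/-- The zeros of a nonzero section are finitely many closed points. -/
theorem exists_zeros (hdim : topologicalKrullDim X = 1) (hL : PicF.IsInvertible L) {s : Γ(L, ⊤)} (hs : s ≠ 0) :
    ∃ S : Finset X, (∀ x ∈ S, IsClosed ({x} : Set X)) ∧ ∀ x, x ∉ S ↔ x ∈ TrivBasic.locus s := by
  classical
  haveI := CurveCohLib.isNoetherian_of_proper (k := k) (X := X)
  have hcl : ∀ x ∈ ((TrivBasic.locus s : Set X)ᶜ), IsClosed ({x} : Set X) := fun x hx => by
    by_contra hxc
    obtain rfl := CurveCohLib.eq_genericPoint_of_not_isClosed hdim hxc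
    obtain ⟨y, hy⟩ := (Opens.ne_bot_iff_nonempty _).1 (TrivBasic.locus_ne_bot hL hs)
    exact hx (((genericPoint_spec X).specializes (Set.mem_univ y)).mem_open (TrivBasic.locus s).2 hy)
  have hfin := CurveCohLib.finite_of_closedPoints (TrivBasic.locus s).2.isClosed_compl hcl
  exact ⟨hfin.toFinset, fun x hx => hcl x (hfin.mem_toFinset.1 hx),
    fun x => by rw [hfin.mem_toFinset]; exact not_not⟩

include k in
theorem subsingleton_h1_P (hdim : topologicalKrullDim X = 1) (hL : PicF.IsInvertible L) {s : Γ(L, ⊤)} (hs : s ≠ 0)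
    (h1 : Subsingleton (Coh.HH X (Coh.structureModule X) 1)) : ∀ m, Subsingleton (Coh.HH X (P L m) 1) := by
  obtain ⟨S, hScl, hS⟩ := exists_zeros k hdim hL hs
  intro m
  induction m with
  | zero =>
    haveI := InvEnd.mono_of_ne_zero CurveDeg.isInvertible_structureModule hL _ (ofSect_ne_zero hs)
    exact subsingleton_h1 k CurveDeg.isInvertible_structureModule hL (ofSect s) S hScl
      (surjOff_ofSect s S fun x hx => (hS x).1 hx) h1
  | succ m ih =>
    have hP := isInvertible_P hL m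
    haveI := InvEnd.mono_of_ne_zero hP (isInvertible_P hL (m + 1)) (AmpleVan.mulSec s (P L m))
      (mulSec_ne_zero hL hP hs)
    exact subsingleton_h1 k hP (isInvertible_P hL (m + 1)) (AmpleVan.mulSec s (P L m)) S hScl
      (surjOff_mulSec hP s S fun x hx => (hS x).1 hx) ih

include k in
/-- A second section generating where the first vanishes. -/
theorem exists_complement_of_surj (hdim : topologicalKrullDim X = 1) (hL : PicF.IsInvertible L) {s : Γ(L, ⊤)} (hs : s ≠ 0)
    (hsurj0 : Function.Surjective (mapLin k (cokernel.π (ofSect s)) 0)) :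
    ∃ t : Γ(L, ⊤), ∀ x : X, x ∈ TrivBasic.locus s ∨ x ∈ TrivBasic.locus t := by
  obtain ⟨S, hScl, hS⟩ := exists_zeros k hdim hL hs
  haveI := InvEnd.mono_of_ne_zero CurveDeg.isInvertible_structureModule hL _ (ofSect_ne_zero hs)
  choose V hxV e he using fun x : S => exists_frame hL x.1
  obtain ⟨t, ht⟩ := exists_lift k CurveDeg.isInvertible_structureModule hL (ofSect s) S hScl
    (surjOff_ofSect s S fun x hx => (hS x).1 hx) hsurj0 V hxV e
  refine ⟨t, fun x => ?_⟩
  by_cases hx : x ∈ S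
  swap
  · exact Or.inl ((hS x).1 hx)
  right
  obtain ⟨W, hWV, hxW, w, hw⟩ := ht ⟨x, hx⟩
  have hf := (he ⟨x, hx⟩).res hWV
  obtain ⟨σ, hσ⟩ := hf.exists_coord le_rfl (AModX.res L (le_top : W ≤ ⊤) s)
  rw [AModX.res_self] at hσ
  have hw' : (show Γ(X, W) from w) • AModX.res L (le_top : W ≤ ⊤) s =
      AModX.res L (le_top : W ≤ ⊤) t - AModX.res L hWV (e ⟨x, hx⟩) := (ofSect_app s W w).symm.trans hw
  have ht' : AModX.res L (le_top : W ≤ ⊤) t = ((show Γ(X, W) from w) * σ + 1) • AModX.res L hWV (e ⟨x, hx⟩) := by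
    rw [add_smul, mul_smul, ← hσ, hw', one_smul, sub_add_cancel]
  have h2 : x ∈ X.basicOpen ((show Γ(X, W) from w) * σ + 1) := by
    rw [X.mem_basicOpen _ x hxW, map_add, map_one, map_mul]
    by_contra hu
    have hσx : ¬ IsUnit (X.presheaf.germ W x hxW σ) := fun h => by
      have h3 : x ∈ TrivBasic.locus s ⊓ W := by
        rw [TrivBasic.locus_eq_basicOpen hf hσ, X.mem_basicOpen _ x hxW]
        exact h
      exact (hS x).2 h3.1 hx
    refine (IsLocalRing.mem_maximalIdeal (1 : X.presheaf.stalk x)).1 ?_ isUnit_one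
    have := Ideal.sub_mem _ ((IsLocalRing.mem_maximalIdeal _).2 hu)
      (Ideal.mul_mem_left _ (X.presheaf.germ W x hxW (show Γ(X, W) from w))
        ((IsLocalRing.mem_maximalIdeal _).2 hσx))
    rwa [add_sub_cancel_left] at this
  rw [← TrivBasic.locus_eq_basicOpen hf ht'] at h2
  exact h2.1

include k in
/-- Sections of powers are generated in degree one, when sections of the cokernels lift. -/
theorem mulSurj_of_surj (hdim : topologicalKrullDim X = 1) (hL : PicF.IsInvertible L) {s : Γ(L, ⊤)} (hs : s ≠ 0)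
    (hsurj0 : Function.Surjective (mapLin k (cokernel.π (ofSect s)) 0))
    (hsurj : ∀ m, Function.Surjective (mapLin k (cokernel.π (AmpleVan.mulSec s (P L m))) 0)) : MulSurj L := by
  obtain ⟨S, hScl, hS⟩ := exists_zeros k hdim hL hs
  obtain ⟨t, hst⟩ := exists_complement_of_surj k hdim hL hs hsurj0
  intro m u
  have hP := isInvertible_P hL m
  have hloc : ∀ x : S, ∃ (U : X.Opens) (_ : x.1 ∈ U) (c : Γ(P L m, U)), U ≤ TrivBasic.locus t ∧
      AModX.res (P L (m + 1)) (le_top : U ≤ ⊤) u = InvX.tmul c (AModX.res L (le_top : U ≤ ⊤) t) := fun x => by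
    obtain ⟨V, hxV, e, he⟩ := exists_frame hP x.1
    have hxt : x.1 ∈ TrivBasic.locus t := (hst x.1).resolve_left fun h => (hS x.1).2 h x.2
    have hfr := isFrame_tmul (he.res (inf_le_left : V ⊓ TrivBasic.locus t ≤ V))
      (TrivBasic.isFrame_res_of_le_locus (inf_le_right : V ⊓ TrivBasic.locus t ≤ TrivBasic.locus t))
    obtain ⟨g, hg⟩ := hfr.exists_coord le_rfl
      (AModX.res (CohB1.tensorMod (P L m) L) (le_top : V ⊓ TrivBasic.locus t ≤ ⊤) u)
    rw [AModX.res_self] at hg
    exact ⟨V ⊓ TrivBasic.locus t, ⟨hxV, hxt⟩, g • AModX.res (P L m) inf_le_left e, inf_le_right,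
      hg.trans (InvX.tmul_smul_left g _ _).symm⟩
  choose U hxU c hUt hc using hloc
  obtain ⟨a, ha⟩ : ∃ a : Γ(P L m, ⊤), ∀ x : S, ∃ (W : X.Opens) (h : W ≤ U x), x.1 ∈ W ∧
      ∃ (σ : Γ(X, W)) (z : Γ(P L m, W)), AModX.res L (le_top : W ≤ ⊤) s = σ • AModX.res L (le_top : W ≤ ⊤) t ∧
        AModX.res (P L m) (le_top : W ≤ ⊤) a - AModX.res (P L m) h (c x) = σ • z := by
    have hcoord : ∀ (x : S) (W : X.Opens), W ≤ U x → ∃ σ : Γ(X, W),
        AModX.res L (le_top : W ≤ ⊤) s = σ • AModX.res L (le_top : W ≤ ⊤) t := fun x W h => by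
      obtain ⟨σ, hσ⟩ := (TrivBasic.isFrame_res_of_le_locus (h.trans (hUt x))).exists_coord le_rfl
        (AModX.res L (le_top : W ≤ ⊤) s)
      rw [AModX.res_self] at hσ
      exact ⟨σ, hσ⟩
    cases m with
    | zero =>
      haveI := InvEnd.mono_of_ne_zero CurveDeg.isInvertible_structureModule hL _ (ofSect_ne_zero hs)
      obtain ⟨a, ha⟩ := exists_lift k CurveDeg.isInvertible_structureModule hL (ofSect s) S hScl
        (surjOff_ofSect s S fun x hx => (hS x).1 hx) hsurj0 U hxU c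
      refine ⟨a, fun x => ?_⟩
      obtain ⟨W, h, hxW, w, hw⟩ := ha x
      obtain ⟨σ, hσ⟩ := hcoord x W h
      refine ⟨W, h, hxW, σ, (show Γ(X, W) from w) • AModX.res L (le_top : W ≤ ⊤) t, hσ, hw.symm.trans ?_⟩
      rw [ofSect_app, hσ]
      exact smul_comm _ _ _
    | succ m =>
      have hP' := isInvertible_P hL m
      haveI := InvEnd.mono_of_ne_zero hP' (isInvertible_P hL (m + 1)) (AmpleVan.mulSec s (P L m))
        (mulSec_ne_zero hL hP' hs)
      obtain ⟨a, ha⟩ := exists_lift k hP' (isInvertible_P hL (m + 1)) (AmpleVan.mulSec s (P L m)) S hScl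
        (surjOff_mulSec hP' s S fun x hx => (hS x).1 hx) (hsurj m) U hxU c
      refine ⟨a, fun x => ?_⟩
      obtain ⟨W, h, hxW, w, hw⟩ := ha x
      obtain ⟨σ, hσ⟩ := hcoord x W h
      refine ⟨W, h, hxW, σ, InvX.tmul w (AModX.res L (le_top : W ≤ ⊤) t), hσ, hw.symm.trans ?_⟩
      refine (AmpleVan.mulSec_app s (P L m) W w).trans ?_
      rw [hσ]
      exact InvX.tmul_smul_right σ _ _
  haveI := InvEnd.mono_of_ne_zero hP (isInvertible_P hL (m + 1)) (AmpleVan.mulSec s (P L m))
    (mulSec_ne_zero hL hP hs)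
  obtain ⟨v, hv⟩ := exists_preimage (AmpleVan.mulSec s (P L m))
    ((show Γ(CohB1.tensorMod (P L m) L, ⊤) from u) - InvX.tmul a t) fun x => by
    by_cases hx : x ∈ S
    swap
    · obtain ⟨W, hW, hxW, w, hw⟩ := surjOff_mulSec hP s S (fun y hy => (hS y).1 hy) x hx ⊤ trivial
        ((show Γ(CohB1.tensorMod (P L m) L, ⊤) from u) - InvX.tmul a t)
      exact ⟨W, hxW, w, hw⟩
    obtain ⟨W, h, hxW, σ, z, hσ, hz⟩ := ha ⟨x, hx⟩
    refine ⟨W, hxW, -z, ?_⟩
    refine (AmpleVan.mulSec_app s (P L m) W (-z)).trans ?_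
    show InvX.tmul (-z) _ = AModX.res (CohB1.tensorMod (P L m) L) _ _
    rw [map_sub, InvX.res_tmul, eq_add_of_sub_eq hz, AmpleVan.tmul_add_left]
    have h1 : AModX.res (CohB1.tensorMod (P L m) L) (le_top : W ≤ ⊤) u =
        InvX.tmul (AModX.res (P L m) h (c ⟨x, hx⟩)) (AModX.res L (le_top : W ≤ ⊤) t) := by
      rw [← AModX.res_res (le_top : U ⟨x, hx⟩ ≤ ⊤) h, show AModX.res (CohB1.tensorMod (P L m) L) _ u = _ from hc ⟨x, hx⟩, InvX.res_tmul,
        AModX.res_res]
    rw [h1, hσ, InvX.tmul_smul_left, InvX.tmul_smul_right]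
    have h2 : InvX.tmul (-z) (AModX.res L (le_top : W ≤ ⊤) t) = -InvX.tmul z (AModX.res L (le_top : W ≤ ⊤) t) :=
      eq_neg_of_add_eq_zero_left (by rw [← AmpleVan.tmul_add_left, neg_add_cancel, AmpleVan.tmul_zero_left])
    rw [h2, smul_neg]
    abel
  refine ⟨a, v, t, s, ?_⟩
  rw [AmpleVan.mulSec_app, AModX.res_self] at hv
  rw [hv]
  abel

include k in
/-- With `H¹(O) = 0`, a second section generates where the first vanishes. -/
theorem exists_complement (hdim : topologicalKrullDim X = 1) (hL : PicF.IsInvertible L) {s : Γ(L, ⊤)} (hs : s ≠ 0)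
    (h1 : Subsingleton (Coh.HH X (Coh.structureModule X) 1)) :
    ∃ t : Γ(L, ⊤), ∀ x : X, x ∈ TrivBasic.locus s ∨ x ∈ TrivBasic.locus t := by
  haveI := InvEnd.mono_of_ne_zero CurveDeg.isInvertible_structureModule hL _ (ofSect_ne_zero hs)
  exact exists_complement_of_surj k hdim hL hs (surjective_of_h1 k (ofSect s) h1)

include k in
/-- With `H¹(O) = 0`, sections of powers are generated in degree one. -/
theorem mulSurj (hdim : topologicalKrullDim X = 1) (hL : PicF.IsInvertible L) {s : Γ(L, ⊤)} (hs : s ≠ 0)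
    (h1 : Subsingleton (Coh.HH X (Coh.structureModule X) 1)) : MulSurj L := by
  haveI := InvEnd.mono_of_ne_zero CurveDeg.isInvertible_structureModule hL _ (ofSect_ne_zero hs)
  refine mulSurj_of_surj k hdim hL hs (surjective_of_h1 k (ofSect s) h1) fun m => ?_
  haveI := InvEnd.mono_of_ne_zero (isInvertible_P hL m) (isInvertible_P hL (m + 1))
    (AmpleVan.mulSec s (P L m)) (mulSec_ne_zero hL (isInvertible_P hL m) hs)
  exact surjective_of_h1 k (AmpleVan.mulSec s (P L m)) (subsingleton_h1_P k hdim hL hs h1 m)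

end Groth.Agent.CurveEmbed
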