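import Groth.Agent.CurveEmbed.Pow
import Groth.Agent.DecShLib.Sect
import Groth.Agent.MeroX.AssPts
import Groth.Agent.SurfRows.Sections
import Groth.Agent.AmpleX.RelAffine

/-! A regular section on a curve: the cube of an invertible module without first cohomology is generated. -/

noncomputable section

set_option linter.style.haveILetI false
set_option linter.unusedSectionVars false
set_option backward.isDefEq.respectTransparency false
set_option backward.isDefEq.respectTransparency.types false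
set_option maxHeartbeats 1000000

universe u

open CategoryTheory CategoryTheory.Limits AlgebraicGeometry TopologicalSpace Opposite
open Groth.Agent.PnCoh.Finite (mapLin)

namespace Groth.Agent.CurveEmbed.Sextic

open Groth.Agent Groth.Agent.CurveBundle Groth.Agent.CurveSlope Groth.Agent.H23

variable {X : Scheme.{u}} {M N : X.Modules} (k : Type u) [Field k] [X.Over (Spec (CommRingCat.of k))]
  [IsProper (X ↘ Spec (CommRingCat.of k))]

/-- The map is locally surjective away from `S`. -/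
def SurjOff (ψ : M ⟶ N) (S : Finset X) : Prop :=
  ∀ x ∉ S, ∀ (U : X.Opens), x ∈ U → ∀ n : Γ(N, U),
    ∃ (W : X.Opens) (h : W ≤ U), x ∈ W ∧ ∃ w : Γ(M, W), ψ.app W w = AModX.res N h n

theorem support_cokernel_subset {ψ : M ⟶ N} {S : Finset X} (hout : SurjOff ψ S) :
    CohB1.support (cokernel ψ) ⊆ S := by
  intro x hx
  by_contra hxS
  refine hx (subsingleton_of_forall_eq 0 fun z => ?_)
  let F := DerSch.stalkFunctor X x
  obtain ⟨y, rfl⟩ := (ModuleCat.epi_iff_surjective (F.map (cokernel.π ψ))).1 inferInstance z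
  obtain ⟨U, hxU, n, rfl⟩ := TopCat.Presheaf.exists_germ_eq N.presheaf y
  obtain ⟨W, hW, hxW, w, hw⟩ := hout x hxS U hxU n
  have h1 : F.map ψ (M.presheaf.germ W x hxW w) = N.presheaf.germ U x hxU n := by
    refine (TopCat.Presheaf.stalkFunctor_map_germ_apply W x hxW
      ((Scheme.Modules.toPresheaf X).map ψ) w).trans ?_
    exact (congrArg (N.presheaf.germ W x hxW) hw).trans (InvX.germ_res' hW hxW n)
  rw [← h1, ← ConcreteCategory.comp_apply, ← F.map_comp, cokernel.condition, F.map_zero]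
  rfl

include k in
/-- The map is surjective on first cohomology. -/
theorem subsingleton_h1 (hM : PicF.IsInvertible M) (hN : PicF.IsInvertible N) (ψ : M ⟶ N) [Mono ψ]
    (S : Finset X) (hS : ∀ x ∈ S, IsClosed ({x} : Set X)) (hout : SurjOff ψ S)
    (h1 : Subsingleton (Coh.HH X M 1)) : Subsingleton (Coh.HH X N 1) := by
  haveI := CurveCohLib.isNoetherian_of_proper (k := k) (X := X)
  have hsub := support_cokernel_subset hout
  haveI := CurveVanish.subsingleton_HH_of_finite (M := cokernel ψ) S.finite_toSet hS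
    (fun x hx => not_not.1 fun h => hx (hsub h)) 0
  refine subsingleton_of_forall_eq 0 fun y => ?_
  obtain ⟨m, rfl⟩ := (CurveCohLib.ker_mapLin_g k (shortExact_cokernel_of_mono ψ) 1).le
    (LinearMap.mem_ker.2 (Subsingleton.elim (mapLin k (cokernel.π ψ) 1 y) 0))
  rw [Subsingleton.elim m 0, map_zero]

include k in
/-- Without first cohomology of the source, all sections of the cokernel lift. -/
theorem surjective_of_h1 (ψ : M ⟶ N) [Mono ψ] (h1 : Subsingleton (Coh.HH X M 1)) :
    Function.Surjective (mapLin k (cokernel.π ψ) 0) := fun y => by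
  haveI := h1
  exact (CurveCohLib.ker_deltaLin k (shortExact_cokernel_of_mono ψ) 0).le
    (LinearMap.mem_ker.2 (Subsingleton.elim _ 0) : y ∈ _)

include k in
/-- Prescribing sections modulo the image at finitely many closed points. -/
theorem exists_lift (hM : PicF.IsInvertible M) (hN : PicF.IsInvertible N) (ψ : M ⟶ N) [Mono ψ]
    (S : Finset X) (hS : ∀ x ∈ S, IsClosed ({x} : Set X)) (hout : SurjOff ψ S)
    (hsurj : Function.Surjective (mapLin k (cokernel.π ψ) 0)) (U : S → X.Opens) (hU : ∀ x : S, x.1 ∈ U x) (c : ∀ x : S, Γ(N, U x)) :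
    ∃ a : Γ(N, ⊤), ∀ x : S, ∃ (W : X.Opens) (h : W ≤ U x), x.1 ∈ W ∧
      ∃ w : Γ(M, W), ψ.app W w = AModX.res N (le_top : W ≤ ⊤) a - AModX.res N h (c x) := by
  classical
  haveI := CurveCohLib.isNoetherian_of_proper (k := k) (X := X)
  have hSE := shortExact_cokernel_of_mono ψ
  have hsub := support_cokernel_subset hout
  have hC : Coh.IsCoh (cokernel ψ) :=
    QCoh.isCoh_cokernel (CurveDeg.isCoh_of_isInvertible hM).1 (CurveDeg.isCoh_of_isInvertible hN) ψ
  obtain ⟨e, he⟩ := CurveCohLib.exists_h0Equiv (k := k) hC (fun x hx => hS x (hsub hx)) S hsub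
  let q := fun x : X => (DerSch.stalkFunctor X x).map (cokernel.π ψ)
  let y : Coh.HH X (cokernel ψ) 0 := e.symm fun x => q x.1 (N.presheaf.germ (U x) x.1 (hU x) (c x))
  obtain ⟨t, ht⟩ := hsurj y
  let a : Γ(N, ⊤) := Sheaf.H.equiv₀ (Coh.toAb N) isTerminalTop t
  refine ⟨a, fun x => ?_⟩
  let F := DerSch.stalkFunctor X x.1
  let d : Γ(N, U x) := AModX.res N (le_top : U x ≤ ⊤) a - c x
  have h0 : q x.1 (N.presheaf.germ (U x) x.1 (hU x) d) = 0 := by
    have hg : N.presheaf.germ (U x) x.1 (hU x) d =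
        (show F.obj N from N.presheaf.germ ⊤ x.1 trivial a) -
          (show F.obj N from N.presheaf.germ (U x) x.1 (hU x) (c x)) :=
      ((map_sub _ _ _).trans (congrArg₂ (· - ·) (InvX.germ_res' le_top (hU x) a) rfl))
    rw [hg]
    refine (map_sub (q x.1).hom _ _).trans (sub_eq_zero.2 ?_)
    have h2 := congrArg (fun z => e z x) ht
    simp only [y, LinearEquiv.apply_symm_apply] at h2
    rw [he] at h2
    refine Eq.trans ?_ h2
    refine (TopCat.Presheaf.stalkFunctor_map_germ_apply ⊤ x.1 trivial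
      ((Scheme.Modules.toPresheaf X).map (cokernel.π ψ)) _).trans ?_
    refine congrArg ((cokernel ψ).presheaf.germ ⊤ x.1 trivial) ?_
    exact (Sheaf.H.equiv₀_naturality isTerminalTop ((QCoh.toAbFunctor X).map (cokernel.π ψ)) t)
  obtain ⟨m, hm⟩ := (ShortComplex.moduleCat_exact_iff _).1 (hSE.map_of_exact F).exact _ h0
  obtain ⟨V, hxV, w, rfl⟩ := TopCat.Presheaf.exists_germ_eq M.presheaf m
  have hm' : N.presheaf.germ V x.1 hxV (ψ.app V w) = N.presheaf.germ (U x) x.1 (hU x) d :=
    (TopCat.Presheaf.stalkFunctor_map_germ_apply V x.1 hxV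
      ((Scheme.Modules.toPresheaf X).map ψ) w).symm.trans hm
  obtain ⟨W, hxW, i, j, hW⟩ := N.presheaf.germ_eq x.1 hxV (hU x) _ _ hm'
  refine ⟨W, j.le, hxW, AModX.res M i.le w, ?_⟩
  rw [AModX.app_res]
  refine hW.trans ?_
  show AModX.res N j.le (AModX.res N (le_top : U x ≤ ⊤) a - c x) = _
  rw [map_sub, AModX.res_res]

variable {L : X.Modules}

theorem surjOff_mulSec (hM : PicF.IsInvertible M) (σ : Γ(L, ⊤)) (S : Finset X)
    (hS : ∀ x ∉ S, x ∈ TrivBasic.locus σ) : SurjOff (AmpleVan.mulSec σ M) S := by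
  intro x hx U hxU n
  obtain ⟨V, hxV, e, he⟩ := InvX.exists_frame hM x
  let W : X.Opens := U ⊓ (V ⊓ TrivBasic.locus σ)
  have hfr := InvX.isFrame_tmul (he.res ((inf_le_right.trans inf_le_left : W ≤ V)))
    (TrivBasic.isFrame_res_of_le_locus ((inf_le_right.trans inf_le_right : W ≤ TrivBasic.locus σ)))
  obtain ⟨g, hg⟩ := hfr.exists_coord le_rfl (AModX.res (CohB1.tensorMod M L) (inf_le_left : W ≤ U) n)
  rw [AModX.res_self] at hg
  refine ⟨W, inf_le_left, ⟨hxU, hxV, hS x hx⟩, g • AModX.res M (inf_le_right.trans inf_le_left : W ≤ V) e, ?_⟩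
  rw [AmpleVan.mulSec_app, InvX.tmul_smul_left]
  exact hg.symm

/-- A regular section generates at the generic points. -/
theorem genericPoints_subset_locus (hL : PicF.IsInvertible L) (s : Coh.structureModule X ⟶ L) [Mono s] :
    genericPoints X ⊆ CohB1.genLocus L s := by
  intro η hη
  have hmax : ∀ y : X, y ⤳ η → y = η := fun y hy => by
    have h1 : closure ({η} : Set X) ⊆ closure {y} :=
      isClosed_closure.closure_subset_iff.2 (Set.singleton_subset_iff.2 hy.mem_closure)
    have h2 : closure {y} ⊆ closure ({η} : Set X) := hη.2 isIrreducible_singleton.closure h1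
    exact (hy.antisymm (specializes_iff_closure_subset.2 h2)).eq
  obtain ⟨V, hηV, e, he⟩ := InvX.exists_frame hL η
  obtain ⟨g, hg⟩ := he.exists_coord le_rfl (AModX.res L (le_top : V ≤ ⊤) (InvX.one s))
  rw [AModX.res_self] at hg
  have hu : IsUnit (X.presheaf.germ V η hηV g) := by
    refine MeroX.isUnit_of_ass (MeroX.mem_ass_of_max hmax) (mem_nonZeroDivisors_iff_right.2 fun r hr => ?_)
    obtain ⟨W, hηW, r, rfl⟩ := TopCat.Presheaf.exists_germ_eq X.presheaf r
    let W' : X.Opens := W ⊓ V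
    have h' : η ∈ W' := ⟨hηW, hηV⟩
    have e1 := X.presheaf.germ_res_apply (homOfLE (inf_le_left : W' ≤ W)) η h' r
    have e2 := X.presheaf.germ_res_apply (homOfLE (inf_le_right : W' ≤ V)) η h' g
    rw [← e1, ← e2, ← map_mul, ← map_zero (X.presheaf.germ W' η h').hom] at hr
    obtain ⟨W₂, hηW₂, i, j, hW₂⟩ := X.presheaf.germ_eq η h' h' _ _ hr
    rw [map_mul, map_zero] at hW₂
    let r₂ : Γ(X, W₂) := X.presheaf.map i.op (X.presheaf.map (homOfLE (inf_le_left : W' ≤ W)).op r)
    have h0 : r₂ = 0 := by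
      refine QCoh.app_injective s W₂ ?_
      refine Eq.trans ?_ (map_zero (s.app W₂).hom).symm
      refine (InvX.app_eq_smul s r₂).trans ?_
      have e3 : AModX.res L (le_top : W₂ ≤ ⊤) (InvX.one s) =
          AModX.res L (i.le.trans inf_le_right : W₂ ≤ V) (AModX.res L (le_top : V ≤ ⊤) (InvX.one s)) :=
        (AModX.res_res _ _ _).symm
      rw [e3, hg, AModX.res_smul, smul_smul]
      have : r₂ * AModX.resR (i.le.trans inf_le_right : W₂ ≤ V) g = 0 := by
        refine Eq.trans ?_ hW₂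
        refine congrArg (r₂ * ·) ?_
        exact (ConcreteCategory.congr_hom (X.presheaf.map_comp (homOfLE (inf_le_right : W' ≤ V)).op i.op) g)
      rw [this, zero_smul]
    rw [← e1, ← X.presheaf.germ_res_apply i η hηW₂]
    exact (congrArg (X.presheaf.germ W₂ η hηW₂) h0).trans (map_zero _)
  rw [← X.mem_basicOpen _ η hηV, ← InvX.genLocus_inf s he hg] at hu
  exact hu.1

/-- Multiplying by a regular section is injective on invertible modules. -/
theorem mono_mulSec (hM : PicF.IsInvertible M) (s : Coh.structureModule X ⟶ L) [Mono s] :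
    Mono (AmpleVan.mulSec (InvX.one s) M) := by
  rw [DecShLib.mulSec_eq_mulHom]
  haveI := CurveOnSurf.isEquivalence_tensor hM
  haveI : Mono (((DCoh.tensorBi (X := X)).obj M).map s) := inferInstance
  unfold HilbPoly.mulHom
  exact mono_comp _ _

include k in
/-- The cube of an invertible module with a regular section and without first cohomology. -/
theorem cube (hdim : topologicalKrullDim X = 1) (hL : PicF.IsInvertible L) (s : Coh.structureModule X ⟶ L)
    [Mono s] (h1 : Subsingleton (Coh.HH X L 1)) :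
    Curv2.IsGloballyGenerated (CohB1.tensorMod (CohB1.tensorMod L L) L) ∧
      Subsingleton (Coh.HH X (CohB1.tensorMod (CohB1.tensorMod L L) L) 1) := by
  classical
  haveI := CurveCohLib.isNoetherian_of_proper (k := k) (X := X)
  let σ : Γ(L, ⊤) := InvX.one s
  have hloc : (CohB1.genLocus L s : Set X) = (TrivBasic.locus σ : Set X) := by
    ext x
    constructor <;> intro hx
    all_goals
      obtain ⟨V, hxV, e, he⟩ := InvX.exists_frame hL x
      obtain ⟨g, hg⟩ := he.exists_coord le_rfl (AModX.res L (le_top : V ≤ ⊤) σ)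
      rw [AModX.res_self] at hg
      have h := (InvX.genLocus_inf s he hg).trans (TrivBasic.locus_eq_basicOpen he hg).symm
    · exact (h.le ⟨hx, hxV⟩).1
    · exact (h.ge ⟨hx, hxV⟩).1
  have hav : ∀ η ∈ genericPoints X, η ∉ ((TrivBasic.locus σ : Set X)ᶜ) := fun η hη h =>
    h (hloc ▸ genericPoints_subset_locus hL s hη)
  have hcl : ∀ x ∈ ((TrivBasic.locus σ : Set X)ᶜ), IsClosed ({x} : Set X) := fun x hx =>
    DecShLib.isClosed_singleton_of_avoid hdim (TrivBasic.locus σ).2.isClosed_compl hav hx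
  have hfin := CurveCohLib.finite_of_closedPoints (TrivBasic.locus σ).2.isClosed_compl hcl
  have hScl : ∀ x ∈ hfin.toFinset, IsClosed ({x} : Set X) := fun x hx => hcl x (hfin.mem_toFinset.1 hx)
  have hS : ∀ x ∉ hfin.toFinset, x ∈ TrivBasic.locus σ := fun x hx => by
    rw [hfin.mem_toFinset] at hx; exact not_not.1 hx
  let M₂ := CohB1.tensorMod L L
  let M₃ := CohB1.tensorMod M₂ L
  have hM₂ : PicF.IsInvertible M₂ := InvX.isInvertible_tensorMod hL hL
  have hM₃ : PicF.IsInvertible M₃ := InvX.isInvertible_tensorMod hM₂ hL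
  haveI : Mono (AmpleVan.mulSec σ L) := mono_mulSec hL s
  haveI : Mono (AmpleVan.mulSec σ M₂) := mono_mulSec hM₂ s
  have h2 : Subsingleton (Coh.HH X M₂ 1) :=
    subsingleton_h1 k hL hM₂ (AmpleVan.mulSec σ L) _ hScl (surjOff_mulSec hL σ _ hS) h1
  refine ⟨SurfRows.gg_of_locus fun x => ?_,
    subsingleton_h1 k hM₂ hM₃ (AmpleVan.mulSec σ M₂) _ hScl (surjOff_mulSec hM₂ σ _ hS) h2⟩
  by_cases hx : x ∈ hfin.toFinset
  swap
  · exact ⟨_, (NefTriv.locus_mulBy hM₂ hL σ _).ge
      ⟨(NefTriv.locus_mulBy hL hL σ σ).ge ⟨hS x hx, hS x hx⟩, hS x hx⟩⟩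
  choose V hxV e he using fun x : hfin.toFinset => InvX.exists_frame hM₃ x.1
  obtain ⟨t, ht⟩ := exists_lift k hM₂ hM₃ (AmpleVan.mulSec σ M₂) _ hScl (surjOff_mulSec hM₂ σ _ hS)
    (surjective_of_h1 k (AmpleVan.mulSec σ M₂) h2) V hxV e
  refine ⟨t, ?_⟩
  obtain ⟨W₀, hWV, hxW₀, w, hw⟩ := ht ⟨x, hx⟩
  obtain ⟨U, hxU, f, hf⟩ := InvX.exists_frame hL x
  let W : X.Opens := W₀ ⊓ U
  have hxW : x ∈ W := ⟨hxW₀, hxU⟩
  have hfW := hf.res (inf_le_right : W ≤ U)
  have heW := (he ⟨x, hx⟩).res (inf_le_left.trans hWV : W ≤ V ⟨x, hx⟩)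
  obtain ⟨a, ha⟩ := hfW.exists_coord le_rfl (AModX.res L (le_top : W ≤ ⊤) σ)
  rw [AModX.res_self] at ha
  obtain ⟨b, hb⟩ := heW.exists_coord le_rfl
    (InvX.tmul (AModX.res M₂ (inf_le_left : W ≤ W₀) w) (AModX.res L (inf_le_right : W ≤ U) f))
  rw [AModX.res_self] at hb
  have hw' := congrArg (AModX.res M₃ (inf_le_left : W ≤ W₀)) hw
  have hw2 := (AmpleVan.mulSec_app σ M₂ W (AModX.res M₂ (inf_le_left : W ≤ W₀) w)).symm.trans
    ((AModX.app_res _ _ _).trans hw')
  rw [ha, InvX.tmul_smul_right, hb, smul_smul] at hw2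
  change (a * b) • AModX.res M₃ (inf_le_left.trans hWV : W ≤ V ⟨x, hx⟩) (e ⟨x, hx⟩) = _ at hw2
  replace hw' := hw2.trans (map_sub _ _ _)
  rw [AModX.res_res, AModX.res_res] at hw'
  have ht' : AModX.res M₃ (le_top : W ≤ ⊤) t =
      (a * b + 1) • AModX.res M₃ (inf_le_left.trans hWV : W ≤ V ⟨x, hx⟩) (e ⟨x, hx⟩) := by
    rw [add_smul, one_smul, hw']
    exact (sub_add_cancel _ _).symm
  have h3 : x ∈ X.basicOpen (a * b + 1) := by
    rw [X.mem_basicOpen _ x hxW, map_add, map_one, map_mul]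
    by_contra hu
    have hax : ¬ IsUnit (X.presheaf.germ W x hxW a) := fun h => by
      have h4 : x ∈ TrivBasic.locus σ ⊓ W := by
        rw [TrivBasic.locus_eq_basicOpen hfW ha, X.mem_basicOpen _ x hxW]
        exact h
      exact hfin.mem_toFinset.1 hx h4.1
    refine (IsLocalRing.mem_maximalIdeal (1 : X.presheaf.stalk x)).1 ?_ isUnit_one
    have := Ideal.sub_mem _ ((IsLocalRing.mem_maximalIdeal _).2 hu)
      (Ideal.mul_mem_right (X.presheaf.germ W x hxW b) _ ((IsLocalRing.mem_maximalIdeal _).2 hax))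
    rwa [add_sub_cancel_left] at this
  rw [← TrivBasic.locus_eq_basicOpen heW ht'] at h3
  exact h3.1

end Groth.Agent.CurveEmbed.Sextic
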